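import Cfsg.Agent.DerangedIndex.Degree

/-!
# Coprime linear groups with a normal subgroup containing all elements with fixed points: tools

`U` is a finite elementary abelian `p`-group, `G` a finite group of automorphisms of it and `D` a
normal subgroup such that elements outside `D` are fixed-point-free.  Here are the general facts
used to bound the index of `D`: fixed subgroups of commuting elements, independence of fixed
subgroups, the bound by the size of an orbit and the covering of the quotient.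
-/

set_option autoImplicit false
set_option linter.unusedSectionVars false
set_option linter.style.haveILetI false

open MulAction

namespace CfsgLib.DerangedIndex

/-- The hypotheses. -/
structure Aff (p : ℕ) (G U : Type*) [Group G] [CommGroup U] [MulDistribMulAction G U]
    (D : Subgroup G) : Prop where
  exp : ∀ u : U, u ^ p = 1
  faith : ∀ g : G, (∀ u : U, g • u = u) → g = 1
  cop : ¬ p ∣ Nat.card D
  fpf : ∀ g : G, g ∉ D → ∀ u : U, g • u = u → u = 1
  fixed : ∃ t ∈ D, t ≠ 1 ∧ ∃ u : U, u ≠ 1 ∧ t • u = u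

variable {G U : Type*} [Group G] [CommGroup U] [MulDistribMulAction G U]

/-- The fixed subgroup of an element. -/
def fx (U : Type*) {G : Type*} [Group G] [CommGroup U] [MulDistribMulAction G U] (g : G) :
    Subgroup U where
  carrier := {u | g • u = u}
  one_mem' := smul_one g
  mul_mem' := fun {a b} ha hb => by
    simp only [Set.mem_ofPred_eq] at ha hb ⊢
    rw [smul_mul', ha, hb]
  inv_mem' := fun {a} ha => by
    simp only [Set.mem_ofPred_eq] at ha ⊢
    rw [smul_inv', ha]

theorem mem_fx {g : G} {u : U} : u ∈ fx U g ↔ g • u = u := Iff.rfl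

/-- The subgroup fixed by a subgroup. -/
def fixS (U : Type*) {G : Type*} [Group G] [CommGroup U] [MulDistribMulAction G U] (S : Subgroup G) :
    Subgroup U := ⨅ g : S, fx U (g : G)

theorem mem_fixS {S : Subgroup G} {u : U} : u ∈ fixS U S ↔ ∀ g ∈ S, g • u = u := by
  simp [fixS, Subgroup.mem_iInf, mem_fx]

theorem fixS_zpowers (g : G) : fixS U (Subgroup.zpowers g) = fx U g := by
  ext u
  rw [mem_fixS, mem_fx]
  exact ⟨fun h => h g (Subgroup.mem_zpowers g),
    fun h x hx => (Subgroup.zpowers_le.2 (show g ∈ stabilizer G u from h)) hx⟩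

theorem smul_mem_fx {g x y : G} (h : g * x * g⁻¹ = y) {u : U} (hu : u ∈ fx U x) :
    g • u ∈ fx U y := by
  rw [mem_fx, ← h, mul_smul, mul_smul, inv_smul_smul, mem_fx.1 hu]

theorem smul_mem_fx_self {g x : G} (h : g * x = x * g) {u : U} (hu : u ∈ fx U x) :
    g • u ∈ fx U x := smul_mem_fx (by rw [h, mul_inv_cancel_right]) hu

theorem smul_mem_fixS {S : Subgroup G} {g : G} (hg : g ∈ Subgroup.normalizer (S : Set G)) {u : U}
    (hu : u ∈ fixS U S) : g • u ∈ fixS U S := by
  rw [mem_fixS] at hu ⊢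
  intro x hx
  have h := hu _ ((Subgroup.mem_normalizer_iff''.1 hg x).1 hx)
  rwa [mul_smul, mul_smul, inv_smul_eq_iff] at h

theorem card_fx_conj [Finite U] {g x y : G} (h : g * x * g⁻¹ = y) :
    Nat.card (fx U y) = Nat.card (fx U x) :=
  Nat.card_congr
    { toFun := fun u => ⟨g⁻¹ • (u : U), smul_mem_fx (by rw [← h]; group) u.2⟩
      invFun := fun u => ⟨g • (u : U), smul_mem_fx h u.2⟩
      left_inv := fun u => Subtype.ext (smul_inv_smul g (u : U))
      right_inv := fun u => Subtype.ext (inv_smul_smul g (u : U)) }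

theorem card_fixS_conj [Finite U] {g : G} {A B : Subgroup G}
    (h : A.map (MulAut.conj g).toMonoidHom = B) : Nat.card (fixS U B) = Nat.card (fixS U A) := by
  subst h
  refine Nat.card_congr
    { toFun := fun u => ⟨g⁻¹ • (u : U), mem_fixS.2 fun x hx => ?_⟩
      invFun := fun u => ⟨g • (u : U), mem_fixS.2 ?_⟩
      left_inv := fun u => Subtype.ext (smul_inv_smul g (u : U))
      right_inv := fun u => Subtype.ext (inv_smul_smul g (u : U)) }
  · have h := mem_fixS.1 u.2 _ (Subgroup.mem_map_of_mem (MulAut.conj g).toMonoidHom hx)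
    rw [MulEquiv.coe_toMonoidHom, MulAut.conj_apply, mul_smul, mul_smul] at h
    exact smul_left_cancel g (h.trans (smul_inv_smul g (u : U)).symm)
  · rintro _ ⟨x, hx, rfl⟩
    rw [MulEquiv.coe_toMonoidHom, MulAut.conj_apply, mul_smul, mul_smul, inv_smul_smul,
      mem_fixS.1 u.2 x hx]

/-- If a generator of a group of prime order is fixed-point-free, so is every non-trivial element. -/
theorem eq_one_of_fixed_zpowers {z : G} {r : ℕ} [hr : Fact r.Prime] (hzr : z ^ r = 1)
    (hz : ∀ u : U, z • u = u → u = 1) {x : G} (hx : x ∈ Subgroup.zpowers z) (hx1 : x ≠ 1) {u : U}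
    (hu : x • u = u) : u = 1 := by
  refine hz u ?_
  have hz1 : z ≠ 1 := fun e => hx1 (by rw [e, Subgroup.zpowers_one_eq_bot] at hx; exact hx)
  have hle : Subgroup.zpowers x = Subgroup.zpowers z := by
    haveI : Finite (Subgroup.zpowers z) :=
      Nat.finite_of_card_ne_zero (by rw [Nat.card_zpowers, orderOf_eq_prime hzr hz1]; exact hr.out.ne_zero)
    refine Subgroup.eq_of_le_of_card_ge (Subgroup.zpowers_le.2 hx) ?_
    · rw [Nat.card_zpowers, Nat.card_zpowers, orderOf_eq_prime hzr hz1]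
      obtain ⟨i, rfl⟩ := Subgroup.mem_zpowers_iff.1 hx
      rw [orderOf_eq_prime (by rw [← zpow_natCast, ← zpow_mul, mul_comm, zpow_mul, zpow_natCast, hzr,
        one_zpow]) hx1]
  have hmem : z ∈ Subgroup.zpowers x := hle ▸ Subgroup.mem_zpowers z
  exact (Subgroup.zpowers_le.2 (show x ∈ stabilizer G u from hu)) hmem

/-- Conjugation powers. -/
theorem conj_pow_eq {g e c : G} (h : g * e * g⁻¹ = e * c) (hc : g * c = c * g) (i : ℕ) :
    g ^ i * e * (g ^ i)⁻¹ = e * c ^ i := by
  induction i with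
  | zero => simp
  | succ i ih =>
    calc g ^ (i + 1) * e * (g ^ (i + 1))⁻¹ = g * (g ^ i * e * (g ^ i)⁻¹) * g⁻¹ := by
          rw [pow_succ']; group
      _ = g * e * c ^ i * g⁻¹ := by rw [ih]; group
      _ = g * e * g⁻¹ * c ^ i := by
          rw [mul_assoc (g * e), ← ((Commute.inv_left (show Commute g c from hc)).pow_right i).eq,
            ← mul_assoc]
      _ = e * c ^ (i + 1) := by rw [h, pow_succ', mul_assoc]

section Finite

variable [Finite U]

/-- Independent fixed subgroups. -/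
theorem prod_card_le {ι : Type*} [Fintype ι] (A : ι → Subgroup G) (W : ι → Subgroup U)
    (hfix : ∀ i, ∀ x ∈ A i, ∀ w ∈ W i, x • w = w)
    (hinv : ∀ i j, ∀ x ∈ A i, ∀ w ∈ W j, x • w ∈ W j)
    (hne : ∀ i j, i ≠ j → ∀ w ∈ W j, (∀ x ∈ A i, x • w = w) → w = 1) :
    ∏ i, Nat.card (W i) ≤ Nat.card U := by
  classical
  have key : ∀ s : Finset ι, ∀ w : ι → U, (∀ i ∈ s, w i ∈ W i) → ∏ i ∈ s, w i = 1 →
      ∀ i ∈ s, w i = 1 := by
    intro s
    induction s using Finset.induction with
    | empty => simp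
    | insert j t hj ih =>
      intro w hw hprod i hi
      have hz : ∀ i ∈ t, w i = 1 := by
        intro i hi
        refine hne j i (fun e => hj (e ▸ hi)) _ (hw i (Finset.mem_insert_of_mem hi)) fun x hx => ?_
        have h := ih (fun l => x • w l / w l)
          (fun l hl => div_mem (hinv j l x hx _ (hw l (Finset.mem_insert_of_mem hl)))
            (hw l (Finset.mem_insert_of_mem hl))) ?_ i hi
        · exact div_eq_one.1 h
        · rw [Finset.prod_insert hj] at hprod
          rw [Finset.prod_div_distrib, ← Finset.smul_prod', eq_inv_of_mul_eq_one_right hprod,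
            smul_inv', hfix j x hx _ (hw j (Finset.mem_insert_self j t)), div_self']
      rcases Finset.mem_insert.1 hi with rfl | hi
      · rw [Finset.prod_insert hj, Finset.prod_eq_one hz, mul_one] at hprod
        exact hprod
      · exact hz i hi
  rw [← Nat.card_pi]
  refine Nat.card_le_card_of_injective (fun w : ∀ i, W i => ∏ i, (w i : U)) fun a b e => ?_
  funext i
  refine Subtype.ext (div_eq_one.1 (key Finset.univ (fun i => (a i : U) / b i)
    (fun i _ => div_mem (a i).2 (b i).2) ?_ i (Finset.mem_univ i)))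
  rw [Finset.prod_div_distrib]
  exact div_eq_one.2 e

/-- `r` independent fixed subgroups. -/
theorem card_fx_pow_le {e z g : G} {r : ℕ} [hr : Fact r.Prime] (hzr : z ^ r = 1) (hz1 : z ≠ 1)
    (hz : ∀ u : U, z • u = u → u = 1) (hez : e * z = z * e) (hge : g * e * g⁻¹ = e * z)
    (hgz : g * z = z * g) : Nat.card (fx U e) ^ r ≤ Nat.card U := by
  have h := prod_card_le (ι := Fin r) (fun i => Subgroup.zpowers (e * z ^ (i : ℕ)))
    (fun i => fx U (e * z ^ (i : ℕ))) ?_ ?_ ?_
  · rwa [Finset.prod_congr rfl (g := fun _ => Nat.card (fx U e))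
        fun (i : Fin r) _ => card_fx_conj (conj_pow_eq hge hgz (i : ℕ)), Finset.prod_const,
      Finset.card_univ, Fintype.card_fin] at h
  · intro i x hx w hw
    exact (Subgroup.zpowers_le.2 (show e * z ^ (i : ℕ) ∈ stabilizer G w from hw)) hx
  · intro i j x hx w hw
    refine smul_mem_fx_self ?_ hw
    obtain ⟨l, rfl⟩ := Subgroup.mem_zpowers_iff.1 hx
    have hc : Commute (e * z ^ (i : ℕ)) (e * z ^ (j : ℕ)) :=
      ((Commute.refl e).mul_right ((show Commute e z from hez).pow_right _)).mul_left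
        (((show Commute e z from hez).symm.pow_left _).mul_right ((Commute.refl z).pow_pow _ _))
    exact (hc.zpow_left l).eq
  · intro i j hij w hw hA
    have h1 : (e * z ^ (i : ℕ)) • w = w := hA _ (Subgroup.mem_zpowers _)
    have h2 : (e * z ^ (j : ℕ)) • w = w := hw
    rw [mul_smul] at h1 h2
    have h3 : z ^ (i : ℕ) • w = z ^ (j : ℕ) • w := smul_left_cancel e (h1.trans h2.symm)
    refine eq_one_of_fixed_zpowers (z := z) hzr hz (x := (z ^ (j : ℕ))⁻¹ * z ^ (i : ℕ))
      (mul_mem (inv_mem (pow_mem (Subgroup.mem_zpowers z) _)) (pow_mem (Subgroup.mem_zpowers z) _))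
      ?_ (by rw [mul_smul, h3, inv_smul_smul])
    rw [Ne, inv_mul_eq_one]
    intro e'
    apply hij
    have h4 := pow_inj_mod.1 e'
    rw [orderOf_eq_prime hzr hz1, Nat.mod_eq_of_lt i.2, Nat.mod_eq_of_lt j.2] at h4
    exact Fin.ext h4.symm

/-- The norm of `u` along `x` is fixed by `x`. -/
theorem norm_mem_fx {x : G} {r : ℕ} (hx : x ^ r = 1) (u : U) :
    ∏ j ∈ Finset.range r, x ^ j • u ∈ fx U x := by
  rw [mem_fx, Finset.smul_prod']
  rcases r with _ | r
  · simp
  have e : ∀ j : ℕ, x • x ^ j • u = x ^ (j + 1) • u := fun j => by rw [← mul_smul, ← pow_succ']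
  rw [Finset.prod_congr rfl fun j _ => e j, Finset.prod_range_succ, hx, one_smul,
    Finset.prod_range_succ' (fun j => x ^ j • u), pow_zero, one_smul]

/-- The lines decomposition. -/
theorem mem_iSup_fx {e z : G} {r : ℕ} [hr : Fact r.Prime] (hzr : z ^ r = 1) (her : e ^ r = 1)
    (hz1 : z ≠ 1) (hz : ∀ u : U, z • u = u → u = 1) (hez : e * z = z * e) {p : ℕ} [hp : Fact p.Prime]
    (hexp : ∀ u : U, u ^ p = 1) (hpr : p ≠ r) (u : U) :
    u ∈ ⨆ i : Fin r, fx U (e * z ^ (i : ℕ)) := by
  have hc : Commute e z := hez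
  have h1 : ∀ i : ℕ, ∏ j ∈ Finset.range r, (e * z ^ i) ^ j • u ∈ fx U (e * z ^ i) := fun i =>
    norm_mem_fx (by rw [(hc.pow_right i).mul_pow, her, one_mul, ← pow_mul, mul_comm, pow_mul, hzr,
      one_pow]) u
  have h2 : ∏ i ∈ Finset.range r, ∏ j ∈ Finset.range r, (e * z ^ i) ^ j • u = u ^ r := by
    rw [Finset.prod_comm, Finset.prod_eq_single 0]
    · simp
    · intro j hj hj0
      have e1 : ∀ i : ℕ, (e * z ^ i) ^ j • u = e ^ j • ((z ^ j) ^ i • u) := fun i => by
        rw [(hc.pow_right i).mul_pow, mul_smul, ← pow_mul, ← pow_mul, mul_comm i j]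
      rw [Finset.prod_congr rfl fun i _ => e1 i, ← Finset.smul_prod']
      have hne : z ^ j ≠ 1 := fun h => by
        have := Nat.le_of_dvd (Nat.pos_of_ne_zero hj0) (orderOf_dvd_of_pow_eq_one h)
        rw [orderOf_eq_prime hzr hz1] at this
        have := Finset.mem_range.1 hj
        omega
      rw [eq_one_of_fixed_zpowers hzr hz (pow_mem (Subgroup.mem_zpowers z) j) hne
        (norm_mem_fx (by rw [← pow_mul, mul_comm, pow_mul, hzr, one_pow]) u), smul_one]
    · intro h
      exact absurd (Finset.mem_range.2 hr.out.pos) h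
  have hur : u ^ r ∈ ⨆ i : Fin r, fx U (e * z ^ (i : ℕ)) := by
    rw [← h2]
    exact prod_mem fun i hi =>
      Subgroup.mem_iSup_of_mem (⟨i, Finset.mem_range.1 hi⟩ : Fin r) (h1 i)
  obtain ⟨a, ha⟩ := Nat.exists_mul_mod_eq_one_of_coprime
    ((Nat.coprime_primes hr.out hp.out).2 (Ne.symm hpr)) hp.out.one_lt
  have e' : u = (u ^ r) ^ a := by
    rw [← pow_mul, pow_eq_pow_mod (r * a) (hexp u), ha.2, pow_one]
  rw [e']
  exact pow_mem hur a

end Finite

section Index

variable [Finite G] {D : Subgroup G}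

/-- Covering of the quotient. -/
theorem index_le_card_mul [D.Normal] {Y S : Subgroup G} (hY : Onto Y D) {ι : Type*} [Finite ι]
    (g : ι → G) (h : ∀ y ∈ Y, ∃ i, ∃ s ∈ S, (g i * s)⁻¹ * y ∈ D) :
    D.index ≤ Nat.card ι * D.relIndex S := by
  rw [Subgroup.index, Subgroup.relIndex, Subgroup.index, ← Nat.card_prod]
  refine Nat.card_le_card_of_surjective
    (fun x : ι × (S ⧸ D.subgroupOf S) => QuotientGroup.mk (s := D) (g x.1 * (x.2.out : S))) fun q => ?_
  induction q using QuotientGroup.induction_on with | _ a => ?_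
  obtain ⟨y, hy, hya⟩ := hY a
  obtain ⟨i, s, hs, hd⟩ := h y hy
  refine ⟨(i, QuotientGroup.mk ⟨s, hs⟩), QuotientGroup.eq.2 ?_⟩
  obtain ⟨m, hm⟩ := QuotientGroup.mk_out_eq_mul (D.subgroupOf S) ⟨s, hs⟩
  simp only [hm, Subgroup.coe_mul]
  have hm' : ((m : S) : G) ∈ D := m.2
  have := mul_mem (mul_mem (inv_mem hm') hd) hya
  simpa [mul_assoc] using this

variable [Finite U]

/-- The bound by an orbit. -/
theorem relIndex_stabilizer_le {S : Subgroup G} {W : Subgroup U} (hW : ∀ g ∈ S, ∀ x ∈ W, g • x ∈ W)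
    {w : U} (hw : w ∈ W) (hw1 : w ≠ 1) :
    (stabilizer G w).relIndex S + 1 ≤ Nat.card W := by
  rw [Subgroup.relIndex, show (stabilizer G w).subgroupOf S = stabilizer S w from rfl,
    index_stabilizer]
  have h1 : (orbit S w).ncard ≤ ((W : Set U) \ {1}).ncard :=
    Set.ncard_le_ncard (fun x ⟨s, hs⟩ => ⟨hs ▸ hW s s.2 w hw, fun h => hw1 (by
      rw [Set.mem_singleton_iff] at h
      subst hs
      exact (smul_eq_iff_eq_inv_smul s).1 h |>.trans (smul_one _))⟩) (Set.toFinite _)
  rw [Set.ncard_sdiff_singleton_of_mem (one_mem W), ← Nat.card_coe_set_eq,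
    ← Nat.card_coe_set_eq (W : Set U)] at h1
  have : 0 < Nat.card W := Nat.card_pos
  simp only [SetLike.coe_sort_coe] at h1
  rw [Nat.card_coe_set_eq] at h1
  omega

/-- The orbit splits over `D`. -/
theorem relIndex_mul_relIndex_le {S : Subgroup G} {W : Subgroup U}
    (hW : ∀ g ∈ S, ∀ x ∈ W, g • x ∈ W) {w : U} (hw : w ∈ W) (hw1 : w ≠ 1)
    (hst : ∀ g ∈ S, g • w = w → g ∈ D) :
    D.relIndex S * (stabilizer G w).relIndex (S ⊓ D) + 1 ≤ Nat.card W := by
  refine le_trans (le_of_eq ?_) (relIndex_stabilizer_le hW hw hw1)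
  congr 1
  rw [← Subgroup.inf_relIndex_left S D, ← Subgroup.inf_relIndex_left (S ⊓ D) (stabilizer G w),
    ← Subgroup.inf_relIndex_left S (stabilizer G w), mul_comm]
  have he : S ⊓ D ⊓ stabilizer G w = S ⊓ stabilizer G w :=
    le_antisymm (inf_le_inf_right _ inf_le_left)
      fun g hg => ⟨⟨hg.1, hst g hg.1 hg.2⟩, hg.2⟩
  rw [he]
  exact Subgroup.relIndex_mul_relIndex _ _ _ (fun g hg => ⟨hg.1, hst g hg.1 hg.2⟩) inf_le_left

/-- An element moving `w` gives at least two cosets. -/
theorem two_le_relIndex {S : Subgroup G} {w : U} {x : G} (hx : x ∈ S) (hxw : x • w ≠ w) :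
    2 ≤ (stabilizer G w).relIndex S := by
  refine (Nat.two_le_iff _).2 ⟨Subgroup.index_ne_zero_of_finite, fun h => hxw ?_⟩
  exact Subgroup.relIndex_eq_one.1 h hx

/-- Elements outside `D` moving all of `U ∖ 1`: the index divides `|V| - 1`. -/
theorem dvd_card_sub_one_of_fpf [D.Normal] (hfpf : ∀ g : G, g ∉ D → ∀ u : U, g • u = u → u = 1)
    {Y : Subgroup G} (hY : Onto Y D)
    {V : Subgroup U} (hV : ∀ y ∈ Y, ∀ u ∈ V, y • u ∈ V) : D.index ∣ Nat.card V - 1 := by
  classical
  let X : SubMulAction Y U :=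
    { carrier := (V : Set U) \ {1}
      smul_mem' := fun y u hu => ⟨hV y y.2 u hu.1, fun e => hu.2 (by
        rw [Set.mem_singleton_iff] at e ⊢
        exact (smul_eq_iff_eq_inv_smul y).1 e |>.trans (smul_one _))⟩ }
  have e : Nat.card X = Nat.card V - 1 := by
    rw [show Nat.card X = ((V : Set U) \ {1}).ncard from Nat.card_coe_set_eq _,
      Set.ncard_sdiff_singleton_of_mem (one_mem V), ← Nat.card_coe_set_eq (V : Set U)]
    rfl
  rw [← e]
  haveI := Fintype.ofFinite X
  haveI : Fintype (orbitRel.Quotient Y X) := Fintype.ofFinite _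
  rw [Nat.card_congr (selfEquivSigmaOrbits' Y X), Nat.card_sigma]
  refine Finset.dvd_sum fun q _ => ?_
  induction q using Quotient.inductionOn' with | h b => ?_
  rw [orbitRel.Quotient.orbit_mk, Nat.card_coe_set_eq, ← index_stabilizer, ← hY.relIndex_eq]
  refine Subgroup.index_dvd_of_le fun x hx => ?_
  by_contra hxD
  exact b.2.2 (hfpf x hxD b (congrArg Subtype.val hx))

/-- An invariant subgroup. -/
theorem Aff.dvd_card_sub_one {p : ℕ} [D.Normal] (h : Aff p G U D) {Y : Subgroup G} (hY : Onto Y D)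
    {V : Subgroup U} (hV : ∀ y ∈ Y, ∀ u ∈ V, y • u ∈ V) : D.index ∣ Nat.card V - 1 :=
  dvd_card_sub_one_of_fpf h.fpf hY hV

/-- A proper invariant subgroup gives the bound. -/
theorem Aff.sq_le_of_invariant {p v : ℕ} [hp : Fact p.Prime] [D.Normal] (h : Aff p G U D)
    (hv : Nat.card U = p ^ v) {Y : Subgroup G} (hY : Onto Y D)
    {V : Subgroup U} (hV : ∀ y ∈ Y, ∀ u ∈ V, y • u ∈ V) (hb : V ≠ ⊥) (ht : V ≠ ⊤) :
    (D.index + 1) ^ 2 ≤ Nat.card U := by
  obtain ⟨e, he, hVe⟩ := (Nat.dvd_prime_pow hp.out).1 (hv ▸ Subgroup.card_subgroup_dvd_card V)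
  have he1 : 1 ≤ e := by
    by_contra h0
    exact hb (Subgroup.card_eq_one.1 (by rw [hVe, show e = 0 by omega, pow_zero]))
  have hev : e < v := by
    refine he.lt_of_ne fun e' => ht ?_
    rw [← Subgroup.card_eq_iff_eq_top, hVe, hv, e']
  rw [hv]
  refine sq_le_of_dvd_two (Nat.one_le_iff_ne_zero.2 Subgroup.index_ne_zero_of_finite) hp.out.two_le
    he1 hev ?_ ?_
  · rw [← hVe]; exact h.dvd_card_sub_one hY hV
  · rw [← hv, ← Subgroup.card_top (G := U)]
    exact h.dvd_card_sub_one hY fun _ _ _ _ => trivial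

end Index

end CfsgLib.DerangedIndex
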