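import Cfsg.Agent.DerangedIndex.AffineCases

/-!
# The index bound for coprime linear groups

For `|U| = p ^ v ≥ 2 ^ 256` the index `k` of `D` satisfies `(k + 1) ^ 2 ≤ |U|`.  The proof uses the
weaker bound `k ^ 2 ≤ v ^ 4 |U|`, valid for all `U`, for one fixed subgroup.
-/

set_option autoImplicit false
set_option linter.unusedSectionVars false
set_option linter.style.haveILetI false

open MulAction

namespace CfsgLib.DerangedIndex

universe u v

variable {G : Type u} {U : Type v} [Group G] [CommGroup U] [MulDistribMulAction G U] [Finite G]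
  [Finite U] {D : Subgroup G} [D.Normal] {p : ℕ} [hp : Fact p.Prime] {v' : ℕ}

theorem Aff.one_le_exponent (h : Aff p G U D) (hv : Nat.card U = p ^ v') : 1 ≤ v' := by
  obtain ⟨-, -, -, u, hu, -⟩ := h.fixed
  by_contra hh
  rw [show v' = 0 by omega, pow_zero] at hv
  exact hu ((Nat.card_eq_one_iff_unique.1 hv).1.elim u 1)

/-- The reduction to one fixed subgroup. -/
theorem Aff.sq_le_or_rest (h : Aff p G U D) (hv : Nat.card U = p ^ v') :
    (D.index + 1) ^ 2 ≤ Nat.card U ∨ Rest p U v' D.index := by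
  classical
  by_cases hdone : (D.index + 1) ^ 2 ≤ Nat.card U
  · exact Or.inl hdone
  obtain ⟨t, htD, ht1, u, hu, htu⟩ := h.fixed
  obtain ⟨r, hr, hrd⟩ := Nat.exists_prime_and_dvd (fun e => ht1 (orderOf_eq_one_iff.1 e))
  haveI : Fact r.Prime := ⟨hr⟩
  set y := t ^ (orderOf t / r) with hydef
  have hyo : orderOf y = r := orderOf_pow_orderOf_div (orderOf_pos t).ne' hrd
  have hyD : y ∈ D := pow_mem htD _
  have hy1 : y ≠ 1 := fun e => hr.ne_one (by rw [← hyo, e, orderOf_one])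
  have hyr : y ^ r = 1 := by rw [← hyo]; exact pow_orderOf_eq_one y
  have hyu : y • u = u := pow_mem (show t ∈ stabilizer G u from htu) _
  have hrD : r ∣ Nat.card D := hyo ▸ Subgroup.orderOf_dvd_natCard _ hyD
  have hpr : p ≠ r := fun e => h.cop (e ▸ hrD)
  -- a Sylow subgroup of `D`
  have hyp : IsPGroup r (Subgroup.zpowers (⟨y, hyD⟩ : D)) := by
    refine IsPGroup.of_card (n := 1) ?_
    rw [Nat.card_zpowers, pow_one, ← Subgroup.orderOf_coe]
    exact hyo
  obtain ⟨P, hP⟩ := hyp.exists_le_sylow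
  set R : Subgroup G := (P : Subgroup D).map D.subtype with hR
  have hRD : R ≤ D := Subgroup.map_subtype_le _
  have hRp : IsPGroup r R := P.2.map _
  have hyR : y ∈ R := ⟨⟨y, hyD⟩, hP (Subgroup.mem_zpowers _), rfl⟩
  have hmax : ∀ Q : Subgroup G, Q ≤ ⊤ ⊓ D → IsPGroup r Q → Nat.card Q ≤ Nat.card R := by
    intro Q hQ hQp
    rw [top_inf_eq] at hQ
    obtain ⟨m, hm⟩ := hQp.exists_card_eq
    rw [hm, hR, Subgroup.card_map_of_injective (Subgroup.subtype_injective _), P.card_eq_multiplicity]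
    refine Nat.pow_le_pow_right hr.pos ((hr.pow_dvd_iff_le_factorization Nat.card_pos.ne').1 ?_)
    exact hm ▸ Subgroup.card_dvd_of_le hQ
  set Y := Subgroup.normalizer (R : Set G) with hYdef
  have hY : Onto Y D := ((Onto.top (D := D)).normalizer (le_inf le_top hRD) hRp hmax).mono inf_le_right
  have hB : ∀ B : Subgroup G, B ≤ R → B ≠ ⊥ → Y ≤ Subgroup.normalizer (B : Set G) → fixS U B = ⊥ := by
    intro B _ hB1 hBY
    by_contra hne
    refine hdone (h.sq_le_of_invariant hv hY (V := fixS U B)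
      (fun g hg w hw => smul_mem_fixS (hBY hg) hw) hne fun e => hB1 ?_)
    refine (Subgroup.eq_bot_iff_forall B).2 fun b hb => h.faith b fun w => ?_
    exact mem_fixS.1 (show w ∈ fixS U B from e ▸ Subgroup.mem_top w) b hb
  by_cases hc : ∃ x ∈ omegaCenter r R, x ≠ 1 ∧ fx U x ≠ ⊥
  · obtain ⟨x, hx, hx1, hfx⟩ := hc
    exact Or.inl (case_center h hY hYdef hRD hB hx hx1 hfx)
  push Not at hc
  haveI : Nontrivial R := ⟨⟨⟨y, hyR⟩, 1, fun e => hy1 (congrArg Subtype.val e)⟩⟩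
  obtain ⟨z, hz, hz1⟩ : ∃ z ∈ omegaCenter r R, z ≠ 1 := by
    haveI := hRp.center_nontrivial
    haveI : Finite (Subgroup.center R) := inferInstance
    have hcp : IsPGroup r (Subgroup.center R) := hRp.to_subgroup _
    obtain ⟨k, hk, hck⟩ := hcp.nontrivial_iff_card.1 inferInstance
    obtain ⟨c, hc'⟩ := exists_prime_orderOf_dvd_card' (G := Subgroup.center R) r
      (hck ▸ dvd_pow_self r hk.ne')
    have hco : orderOf ((c : R) : G) = r := by
      rw [Subgroup.orderOf_coe, Subgroup.orderOf_coe]; exact hc'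
    refine ⟨((c : R) : G), ⟨(c : R).2, hco ▸ pow_orderOf_eq_one _, fun g hg =>
      congrArg Subtype.val (Subgroup.mem_center_iff.1 c.2 ⟨g, hg⟩)⟩, fun e => hr.ne_one ?_⟩
    rw [← hco, e, orderOf_one]
  have hzfix : ∀ a : U, z • a = a → a = 1 := fun a ha =>
    Subgroup.mem_bot.1 (hc z hz hz1 ▸ (show a ∈ fx U z from ha))
  have hZ : omegaCenter r R = Subgroup.zpowers z := by
    refine le_antisymm (fun x hx => ?_) (Subgroup.zpowers_le.2 hz)
    by_contra hxz
    refine hu ?_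
    have hle : ⨆ i : Fin r, fx U (x * z ^ (i : ℕ)) ≤ ⊥ := by
      refine iSup_le fun i => (hc _ (mul_mem hx (pow_mem hz _)) fun e => hxz ?_).le
      rw [eq_inv_of_mul_eq_one_left e]
      exact inv_mem (pow_mem (Subgroup.mem_zpowers z) _)
    exact hle (mem_iSup_fx hz.2.1 hx.2.1 hz1 hzfix (hz.2.2 x hx.1) h.exp hpr u)
  by_cases hE : ∃ e, Modz r R z e
  · obtain ⟨e, he⟩ := hE
    exact case_classes h hv (h.one_le_exponent hv) hpr hY hYdef hRD hz.2.1 hz1 hzfix hZ he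
  · push Not at hE
    exact Or.inl (case_dihedral h hY hYdef hRD hRp hz.2.1 hz1 hzfix hZ hyR hyr hy1
      (fun e => hu (Subgroup.mem_bot.1 (e ▸ (show u ∈ fx U y from hyu)))) hE)

/-- The weak bound. -/
theorem Aff.sq_index_le (h : Aff p G U D) (hv : Nat.card U = p ^ v') :
    D.index ^ 2 ≤ v' ^ 4 * Nat.card U := by
  have hv1 : 1 ≤ v' ^ 4 := Nat.one_le_pow _ _ (h.one_le_exponent hv)
  rcases h.sq_le_or_rest hv with h1 | ⟨r, q, s, k1, hr, hqr, hk, hk1, hs, -⟩
  · calc D.index ^ 2 ≤ (D.index + 1) ^ 2 := Nat.pow_le_pow_left (Nat.le_succ _) 2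
      _ ≤ Nat.card U := h1
      _ ≤ v' ^ 4 * Nat.card U := Nat.le_mul_of_pos_left _ hv1
  · have hq2 : q ^ 2 ≤ Nat.card U := (Nat.pow_le_pow_right (by omega) hr.two_le).trans hqr
    calc D.index ^ 2 ≤ (v' * v' * q) ^ 2 :=
          Nat.pow_le_pow_left (hk.trans (Nat.mul_le_mul hs (by omega))) 2
      _ = v' ^ 4 * q ^ 2 := by ring
      _ ≤ v' ^ 4 * Nat.card U := Nat.mul_le_mul_left _ hq2

omit hp in
theorem pow_sixteen_le (p v : ℕ) (hp : 2 ≤ p) (h : 2 ^ 256 ≤ p ^ v) : 16 * v ^ 16 ≤ p ^ v := by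
  rcases le_or_gt v 256 with hv | hv
  · calc 16 * v ^ 16 ≤ 16 * 256 ^ 16 := Nat.mul_le_mul_left _ (Nat.pow_le_pow_left hv 16)
      _ ≤ 2 ^ 256 := by norm_num
      _ ≤ p ^ v := h
  · have key : ∀ w : ℕ, 256 ≤ w → 16 * w ^ 16 ≤ 2 ^ w := by
      intro w hw
      induction w, hw using Nat.le_induction with
      | base => norm_num
      | succ w hw ih =>
        have h1 : (w + 1) ^ 16 ≤ 2 * w ^ 16 := by
          have h2 : (256 * (w + 1)) ^ 16 ≤ (257 * w) ^ 16 := Nat.pow_le_pow_left (by omega) 16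
          rw [mul_pow, mul_pow] at h2
          have h3 : 257 ^ 16 ≤ 2 * 256 ^ 16 := by norm_num
          have h4 : 257 ^ 16 * w ^ 16 ≤ 256 ^ 16 * (2 * w ^ 16) := by
            calc 257 ^ 16 * w ^ 16 ≤ 2 * 256 ^ 16 * w ^ 16 := Nat.mul_le_mul_right _ h3
              _ = 256 ^ 16 * (2 * w ^ 16) := by ring
          exact Nat.le_of_mul_le_mul_left (h2.trans h4) (by norm_num)
        calc 16 * (w + 1) ^ 16 ≤ 16 * (2 * w ^ 16) := Nat.mul_le_mul_left _ h1
          _ = 2 * (16 * w ^ 16) := by ring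
          _ ≤ 2 * 2 ^ w := Nat.mul_le_mul_left _ ih
          _ = 2 ^ (w + 1) := by ring
    exact (key v hv.le).trans (Nat.pow_le_pow_left hp v)

/-- The bound. -/
theorem Aff.sq_le (h : Aff p G U D) (hv : Nat.card U = p ^ v') (hn : 2 ^ 256 ≤ Nat.card U) :
    (D.index + 1) ^ 2 ≤ Nat.card U := by
  rcases h.sq_le_or_rest hv with h1 | ⟨r, q, s, k1, hr, hqr, hk, hk1, hs, hrec⟩
  · exact h1
  have hv1 := h.one_le_exponent hv
  have hbig : 16 * v' ^ 16 ≤ Nat.card U := by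
    rw [hv]
    exact pow_sixteen_le p v' hp.out.two_le (hv ▸ hn)
  have hk0 : 1 ≤ D.index := Nat.one_le_iff_ne_zero.2 Subgroup.index_ne_zero_of_finite
  rcases hr.eq_two_or_odd' with hr2 | hodd
  · subst hr2
    obtain ⟨W, G', D', hnor, hA, hidx, hW⟩ := hrec rfl
    haveI := hnor
    obtain ⟨w', hw', hWw⟩ := (Nat.dvd_prime_pow hp.out).1 (hv ▸ Subgroup.card_subgroup_dvd_card W)
    have hweak := hA.sq_index_le hWw
    rw [hidx, hW] at hweak
    have h1 : D.index ^ 2 ≤ v' ^ 8 * q := by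
      calc D.index ^ 2 ≤ (s * k1) ^ 2 := Nat.pow_le_pow_left hk 2
        _ = s ^ 2 * k1 ^ 2 := mul_pow _ _ _
        _ ≤ (v' * v') ^ 2 * (w' ^ 4 * q) := Nat.mul_le_mul (Nat.pow_le_pow_left hs 2) hweak
        _ ≤ (v' * v') ^ 2 * (v' ^ 4 * q) :=
            Nat.mul_le_mul_left _ (Nat.mul_le_mul_right _ (Nat.pow_le_pow_left hw' 4))
        _ = v' ^ 8 * q := by ring
    have h2 : (D.index + 1) ^ 2 ≤ 4 * v' ^ 8 * q := by
      have h3 : (D.index + 1) ^ 2 ≤ (2 * D.index) ^ 2 := Nat.pow_le_pow_left (by omega) 2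
      rw [mul_pow] at h3
      linarith
    have h4 : (4 * v' ^ 8 * q) ^ 2 ≤ Nat.card U ^ 2 := by
      calc (4 * v' ^ 8 * q) ^ 2 = 16 * v' ^ 16 * q ^ 2 := by ring
        _ ≤ Nat.card U * Nat.card U := Nat.mul_le_mul hbig hqr
        _ = Nat.card U ^ 2 := by ring
    exact h2.trans ((Nat.pow_le_pow_iff_left two_ne_zero).1 h4)
  · have hr3 : 3 ≤ r := by
      obtain ⟨t, rfl⟩ := hodd
      have := hr.two_le
      omega
    have hq3 : q ^ 3 ≤ Nat.card U := (Nat.pow_le_pow_right (by omega) hr3).trans hqr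
    have hs1 : 1 ≤ s := by
      by_contra hh
      rw [show s = 0 by omega, zero_mul] at hk
      omega
    have h1 : D.index + 1 ≤ v' * v' * q := by
      calc D.index + 1 ≤ s * k1 + s := by omega
        _ = s * (k1 + 1) := by ring
        _ ≤ v' * v' * q := Nat.mul_le_mul hs hk1
    have h12 : v' ^ 12 ≤ Nat.card U := by
      have h13 : v' ^ 12 ≤ v' ^ 16 := Nat.pow_le_pow_right (by omega) (by norm_num)
      omega
    have h4 : ((v' * v' * q) ^ 2) ^ 3 ≤ Nat.card U ^ 3 := by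
      calc ((v' * v' * q) ^ 2) ^ 3 = v' ^ 12 * (q ^ 3) ^ 2 := by ring
        _ ≤ Nat.card U * Nat.card U ^ 2 := Nat.mul_le_mul h12 (Nat.pow_le_pow_left hq3 2)
        _ = Nat.card U ^ 3 := by ring
    exact (Nat.pow_le_pow_left h1 2).trans ((Nat.pow_le_pow_iff_left three_ne_zero).1 h4)

end CfsgLib.DerangedIndex
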