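import Cfsg.Agent.S0519

/-!
# Involutions of a non-abelian two-group without non-cyclic normal abelian subgroups

There are at most two classes of non-central involutions, and a non-central involution is conjugate
to its product with the central involution.
-/

set_option autoImplicit false
set_option linter.unusedSectionVars false
set_option linter.style.haveILetI false

namespace CfsgLib.DerangedIndex

variable {P : Type*} [Group P] [Finite P]

/-- Dihedral and quasi-dihedral groups in one form. -/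
theorem exists_cyclic_index_two {r : ℕ} [hr : Fact r.Prime] (hP : IsPGroup r P)
    (hn : ∀ A : Subgroup P, A.Normal → IsMulCommutative A → IsCyclic A) {z y : P}
    (hzr : z ^ r = 1) (hz1 : z ≠ 1) (hyr : y ^ r = 1) (hy : y ∉ Subgroup.zpowers z)
    (hzy : z * y = y * z) :
    r = 2 ∧ ∃ (m : ℕ) (c e : P) (a : ℤ), 3 ≤ m ∧ orderOf c = 2 ^ m ∧ (4 : ℤ) ∣ a + 1 ∧
      e * c * e⁻¹ = c ^ a ∧ ∀ x : P, ∃ i : ℤ, x = c ^ i ∨ x = c ^ i * e := by
  have hB : ¬ IsCyclic (Subgroup.closure {z, y}) := by
    intro hc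
    haveI := hc
    classical
    haveI := Fintype.ofFinite (Subgroup.closure {z, y})
    have hz' : z ∈ Subgroup.closure {z, y} := Subgroup.subset_closure (Or.inl rfl)
    have hy' : y ∈ Subgroup.closure {z, y} := Subgroup.subset_closure (Or.inr rfl)
    have hle := IsCyclic.card_pow_eq_one_le (α := Subgroup.closure {z, y}) (n := r) hr.out.pos
    let f : Option (Subgroup.zpowers z) →
        (Finset.univ.filter fun a : Subgroup.closure {z, y} => a ^ r = 1) := fun o =>
      match o with
      | none => ⟨⟨y, hy'⟩, by simp [Subtype.ext_iff, hyr]⟩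
      | some x => ⟨⟨x, (Subgroup.zpowers_le.2 hz') x.2⟩, by
          obtain ⟨i, hi⟩ := Subgroup.mem_zpowers_iff.1 x.2
          have hx : (x : P) ^ r = 1 := by
            rw [← hi, ← zpow_natCast, ← zpow_mul, mul_comm, zpow_mul, zpow_natCast, hzr, one_zpow]
          simp [Subtype.ext_iff, hx]⟩
    have hf : Function.Injective f := by
      rintro (_ | x) (_ | x') h
      · rfl
      · exact absurd (show y ∈ Subgroup.zpowers z by
          rw [show y = (x' : P) from congrArg (fun a => ((a.1 : Subgroup.closure {z, y}) : P)) h]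
          exact x'.2) hy
      · exact absurd (show y ∈ Subgroup.zpowers z by
          rw [show y = (x : P) from (congrArg (fun a => ((a.1 : Subgroup.closure {z, y}) : P)) h).symm]
          exact x.2) hy
      · exact congrArg some (Subtype.ext (congrArg (fun a => ((a.1 : Subgroup.closure {z, y}) : P)) h))
    haveI := Fintype.ofFinite (Subgroup.zpowers z)
    have h1 := Fintype.card_le_of_injective f hf
    rw [Fintype.card_option, Fintype.card_coe, ← Nat.card_eq_fintype_card, Nat.card_zpowers,
      orderOf_eq_prime hzr hz1] at h1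
    omega
  have hBc : IsMulCommutative (Subgroup.closure {z, y}) := by
    refine Subgroup.isMulCommutative_closure fun a ha b hb => ?_
    rcases ha with rfl | rfl <;> rcases hb with rfl | rfl <;>
      first | rfl | exact hzy | exact hzy.symm
  obtain ⟨rfl, hcases⟩ := Cfsg.Agent.S0519.result r hP hn ⟨_, hBc, hB⟩
  refine ⟨rfl, ?_⟩
  rcases hcases with ⟨n, ⟨φ⟩⟩ | ⟨n, hn8, ⟨φ⟩⟩ | ⟨n, hn3, hcard, x, w, hx, hw, hwx⟩
  · exfalso
    haveI : Finite (QuaternionGroup n) := Finite.of_equiv P φ.toEquiv
    have hn0 : NeZero n := by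
      refine ⟨fun e => ?_⟩
      subst e
      haveI : Infinite (ZMod (2 * 0)) := inferInstanceAs (Infinite ℤ)
      exact not_finite_iff_infinite.2 ‹Infinite (ZMod (2 * 0))›
        (Finite.of_injective (fun i : ZMod (2 * 0) => (QuaternionGroup.a i : QuaternionGroup 0))
          fun a b h => by simpa using h)
    -- two involutions in a quaternion group
    have key : ∀ g : QuaternionGroup n, g ^ 2 = 1 → g ≠ 1 → g = QuaternionGroup.a (n : ZMod (2 * n)) := by
      intro g hg hg1
      rcases g with i | i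
      · rw [pow_two, QuaternionGroup.a_mul_a, QuaternionGroup.one_def,
          QuaternionGroup.a.injEq] at hg
        rw [QuaternionGroup.a.injEq]
        have hlt : i.val < 2 * n := ZMod.val_lt i
        have hd : 2 * n ∣ i.val + i.val := by
          rw [← ZMod.natCast_eq_zero_iff]
          push_cast
          rw [ZMod.natCast_zmod_val]
          exact hg
        have hne : i.val ≠ 0 := fun e => hg1 (by
          rw [QuaternionGroup.one_def, QuaternionGroup.a.injEq]
          exact (ZMod.val_eq_zero i).1 e)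
        obtain ⟨t, ht⟩ := hd
        have : t = 1 := by
          rcases t with _ | _ | t
          · omega
          · rfl
          · exfalso; nlinarith
        subst this
        rw [← ZMod.natCast_zmod_val i]
        congr 1
        omega
      · exfalso
        rw [pow_two, QuaternionGroup.xa_mul_xa, QuaternionGroup.one_def,
          QuaternionGroup.a.injEq] at hg
        have : ((n : ℕ) : ZMod (2 * n)) = 0 := by simpa using hg
        rw [ZMod.natCast_eq_zero_iff] at this
        have := Nat.le_of_dvd (Nat.pos_of_ne_zero hn0.out) this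
        have := hn0.out
        omega
    refine hy ?_
    have e1 := key (φ y) (by rw [← map_pow, hyr, map_one]) (fun e => hy (by
      rw [φ.map_eq_one_iff.1 e]; exact one_mem _))
    have e2 := key (φ z) (by rw [← map_pow, hzr, map_one]) (fun e => hz1 (φ.map_eq_one_iff.1 e))
    rw [φ.injective (e1.trans e2.symm)]
    exact Subgroup.mem_zpowers z
  · obtain ⟨k, hk⟩ := hP.exists_card_eq
    rw [Nat.card_congr φ.toEquiv, DihedralGroup.nat_card] at hk
    obtain ⟨m, -, rfl⟩ := (Nat.dvd_prime_pow Nat.prime_two).1 (⟨2, by omega⟩ : n ∣ 2 ^ k)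
    have hm : 3 ≤ m := by
      by_contra hm
      have : 2 ^ m ≤ 2 ^ 2 := Nat.pow_le_pow_right (by norm_num) (by omega)
      omega
    refine ⟨m, φ.symm (DihedralGroup.r 1), φ.symm (DihedralGroup.sr 0), -1, hm, ?_, by simp, ?_,
      fun x => ?_⟩
    · rw [MulEquiv.orderOf_eq, DihedralGroup.orderOf_r_one]
    · rw [← map_inv, ← map_mul, ← map_mul, zpow_neg_one, ← map_inv]
      simp
    · haveI : NeZero (2 ^ m) := ⟨by positivity⟩
      cases hx : φ x with
      | r i =>
        refine ⟨i.val, Or.inl (φ.injective ?_)⟩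
        rw [hx, map_zpow, φ.apply_symm_apply, zpow_natCast, DihedralGroup.r_one_pow,
          ZMod.natCast_zmod_val]
      | sr i =>
        refine ⟨-(i.val : ℤ), Or.inr (φ.injective ?_)⟩
        rw [hx, map_mul, map_zpow, φ.apply_symm_apply, φ.apply_symm_apply, zpow_neg, zpow_natCast,
          DihedralGroup.r_one_pow, ZMod.natCast_zmod_val]
        simp
  · refine ⟨n, x, w, ((2 ^ (n - 1) - 1 : ℕ) : ℤ), hn3, hx, ?_, by rw [zpow_natCast]; exact hwx, ?_⟩
    · rw [Nat.cast_sub Nat.one_le_two_pow, Nat.cast_one, sub_add_cancel]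
      exact ⟨2 ^ (n - 3), by
        push_cast
        rw [show n - 1 = 2 + (n - 3) by omega, pow_add]; norm_num⟩
    · have hwn : w ∉ Subgroup.zpowers x := by
        intro h
        obtain ⟨i, rfl⟩ := Subgroup.mem_zpowers_iff.1 h
        rw [((Commute.refl x).zpow_left i).eq, mul_inv_cancel_right] at hwx
        have h2 : x ^ 1 = x ^ (2 ^ (n - 1) - 1) := (pow_one x).trans hwx
        rw [pow_inj_mod, hx, Nat.mod_eq_of_lt (Nat.one_lt_two_pow (by omega)),
          Nat.mod_eq_of_lt] at h2
        · have : 4 ≤ 2 ^ (n - 1) := le_trans (by norm_num : (4 : ℕ) ≤ 2 ^ 2)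
            (Nat.pow_le_pow_right (by norm_num) (by omega))
          omega
        · have : 2 ^ (n - 1) ≤ 2 ^ n := Nat.pow_le_pow_right (by norm_num) (by omega)
          have := Nat.two_pow_pos (n - 1)
          omega
      have hidx : (Subgroup.zpowers x).index = 2 := by
        have h := Subgroup.card_mul_index (Subgroup.zpowers x)
        rw [hcard, Nat.card_zpowers, hx, pow_succ] at h
        exact Nat.eq_of_mul_eq_mul_left (by positivity) h
      intro g
      by_cases hg : g ∈ Subgroup.zpowers x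
      · obtain ⟨i, hi⟩ := Subgroup.mem_zpowers_iff.1 hg
        exact ⟨i, Or.inl hi.symm⟩
      · have hgw : g * w⁻¹ ∈ Subgroup.zpowers x := by
          rw [Subgroup.mul_mem_iff_of_index_two hidx, inv_mem_iff]
          exact iff_of_false hg hwn
        obtain ⟨i, hi⟩ := Subgroup.mem_zpowers_iff.1 hgw
        exact ⟨i, Or.inr (by rw [hi, inv_mul_cancel_right])⟩

/-- Two classes of non-central involutions. -/
theorem involution_classes (hP : IsPGroup 2 P)
    (hn : ∀ A : Subgroup P, A.Normal → IsMulCommutative A → IsCyclic A) {z y : P}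
    (hzr : z ^ 2 = 1) (hz1 : z ≠ 1) (hzc : z ∈ Subgroup.center P)
    (hyr : y ^ 2 = 1) (hy : y ∉ Subgroup.zpowers z) :
    (∃ g : P, g * y * g⁻¹ = y * z) ∧ ∃ f₁ f₂ : P, ∀ x : P, x ^ 2 = 1 → x ∉ Subgroup.center P →
      ∃ h : P, x = h * f₁ * h⁻¹ ∨ x = h * f₂ * h⁻¹ := by
  obtain ⟨-, m, c, e, a, hm, hc, ha, hec, hcov⟩ :=
    exists_cyclic_index_two hP hn hzr hz1 hyr hy (Subgroup.mem_center_iff.1 hzc y).symm
  obtain ⟨q, hq⟩ := ha
  have heci : ∀ i : ℤ, e * c ^ i = c ^ (a * i) * e := by
    intro i
    rw [zpow_mul, ← hec, conj_zpow, inv_mul_cancel_right]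
  have hone : ∀ i : ℤ, c ^ i = 1 ↔ (2 : ℤ) ^ m ∣ i := fun i => by
    rw [← orderOf_dvd_iff_zpow_eq_one, hc]; push_cast; rfl
  -- powers of even exponent are conjugation multipliers
  have hmul : ∀ j : ℤ, ∃ i : ℤ, c ^ (i * (1 - a)) = c ^ (2 * j) := by
    intro j
    obtain ⟨s, t, hst⟩ : IsCoprime (1 - 2 * q) ((2 : ℤ) ^ m) :=
      IsCoprime.pow_right ⟨1, q, by ring⟩
    refine ⟨s * j, ?_⟩
    rw [← mul_inv_eq_one, ← zpow_sub, hone]
    exact ⟨-2 * t * j, by linear_combination (2 * j) * hst - (s * j) * hq⟩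
  have hconj : ∀ (i j : ℤ), c ^ i * (c ^ j * e) * (c ^ i)⁻¹ = c ^ (i * (1 - a) + j) * e := by
    intro i j
    rw [← zpow_neg, mul_assoc (c ^ i), mul_assoc (c ^ j), heci, ← mul_assoc (c ^ j), ← mul_assoc,
      ← zpow_add, ← zpow_add]
    congr 2
    ring
  -- an involution among the powers of `c` is central
  have hnc : ∀ x : P, x ^ 2 = 1 → x ∉ Subgroup.center P → ∃ j : ℤ, x = c ^ j * e := by
    intro x hx hxc
    obtain ⟨i, rfl | rfl⟩ := hcov x
    · exfalso
      refine hxc (Subgroup.mem_center_iff.2 ?_)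
      have hi : (2 : ℤ) ^ m ∣ i * 2 := by
        rw [← hone, zpow_mul, zpow_two, ← pow_two]; exact hx
      have hfix : e * c ^ i = c ^ i * e := by
        rw [heci]
        congr 1
        rw [← mul_inv_eq_one, ← zpow_sub, hone]
        obtain ⟨w, hw⟩ := hi
        exact ⟨(2 * q - 1) * w, by linear_combination i * hq + (2 * q - 1) * hw⟩
      intro g
      obtain ⟨l, rfl | rfl⟩ := hcov g
      · exact ((Commute.refl c).zpow_zpow l i).eq
      · rw [mul_assoc, hfix, ← mul_assoc, ← mul_assoc, ((Commute.refl c).zpow_zpow l i).eq]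
    · exact ⟨i, rfl⟩
  have hync : y ∉ Subgroup.center P := by
    intro hyc
    have hK : (Subgroup.zpowers z ⊔ Subgroup.zpowers y).Normal := by
      constructor
      intro w hw g
      have : w ∈ Subgroup.center P :=
        (sup_le (Subgroup.zpowers_le.2 hzc) (Subgroup.zpowers_le.2 hyc)) hw
      rw [Subgroup.mem_center_iff.1 this g, mul_inv_cancel_right]
      exact hw
    exact CfsgLib.Classification.CyclicNormal.no_elementary (p := 2) hn hzr hz1 hyr hy
      (Subgroup.mem_center_iff.1 hzc y).symm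
      (fun g => by rw [Subgroup.mem_center_iff.1 hzc g, mul_inv_cancel_right]
                   exact Subgroup.mem_zpowers z)
      (fun g => by rw [Subgroup.mem_center_iff.1 hyc g, mul_inv_cancel_right]
                   exact Subgroup.mem_sup_right (Subgroup.mem_zpowers y))
  obtain ⟨j, rfl⟩ := hnc y hyr hync
  refine ⟨?_, c ^ (0 : ℤ) * e, c ^ (1 : ℤ) * e, fun x hx hxc => ?_⟩
  · obtain ⟨l, rfl | rfl⟩ := hcov z
    · have hl : (2 : ℤ) ^ m ∣ l * 2 := by
        rw [← hone, zpow_mul, zpow_two, ← pow_two]; exact hzr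
      obtain ⟨t, rfl⟩ : (2 : ℤ) ∣ l := by
        obtain ⟨w, hw⟩ := hl
        refine ⟨2 ^ (m - 2) * w, ?_⟩
        have e2 : (2 : ℤ) ^ m = 2 * 2 * 2 ^ (m - 2) := by
          rw [show (2 : ℤ) * 2 = 2 ^ 2 by norm_num, ← pow_add]
          congr 1
          omega
        rw [e2] at hw
        linarith
      obtain ⟨i, hi⟩ := hmul t
      refine ⟨c ^ i, ?_⟩
      rw [hconj, zpow_add, hi, mul_assoc]
      exact ((Subgroup.mem_center_iff.1 hzc) (c ^ j * e)).symm
    · exfalso
      have h1 : (c ^ l * e) * c = c * (c ^ l * e) := (Subgroup.mem_center_iff.1 hzc c).symm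
      have h1' : c ^ l * (e * c ^ (1 : ℤ)) = c ^ l * (c ^ (1 : ℤ) * e) := by
        rw [zpow_one, ← mul_assoc, h1, ← mul_assoc, ← mul_assoc,
          ((Commute.refl c).zpow_left l).eq]
      rw [heci, mul_right_inj, mul_left_inj, mul_one, ← mul_inv_eq_one, ← zpow_sub, hone] at h1'
      obtain ⟨w, hw⟩ := h1'
      have e2 : (2 : ℤ) ^ m = 4 * 2 ^ (m - 2) := by
        rw [show (4 : ℤ) = 2 ^ 2 by norm_num, ← pow_add]
        congr 1
        omega
      rw [e2] at hw
      have : (4 : ℤ) ∣ 2 := ⟨q - 2 ^ (m - 2) * w, by linarith⟩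
      norm_num at this
  · obtain ⟨i, rfl⟩ := hnc x hx hxc
    rcases Int.even_or_odd i with ⟨t, rfl⟩ | ⟨t, rfl⟩
    · obtain ⟨l, hl⟩ := hmul t
      refine ⟨c ^ l, Or.inl ?_⟩
      rw [hconj, add_zero, hl, two_mul]
    · obtain ⟨l, hl⟩ := hmul t
      refine ⟨c ^ l, Or.inr ?_⟩
      rw [hconj, zpow_add _ _ (1 : ℤ), zpow_add _ _ (1 : ℤ), hl]

end CfsgLib.DerangedIndex
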