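import Cfsg.Agent.DerangedIndex.AffineCount
import Cfsg.Agent.DerangedIndex.AffineTwoGroup
import Cfsg.Agent.TwoGroupsQ.UniqueInvolution
import Cfsg.Agent.BlocksCharsC.PGroupCenter

/-!
# Coprime linear groups with a normal subgroup containing all elements with fixed points: the cases

`R ≤ D` is an `r`-subgroup, `Y` its normaliser, meeting every coset of `D`.  Either some element of
order `r` of the centre of `R` has fixed points, or the centre has a single fixed-point-free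
subgroup `⟨z⟩` of order `r`; in the second case one looks at the elements of order `r` centralised
by `R` modulo `⟨z⟩`.
-/

set_option autoImplicit false
set_option linter.unusedSectionVars false
set_option linter.style.haveILetI false

open MulAction

namespace CfsgLib.DerangedIndex

theorem add_two_sq_le (a o : ℕ) (ho : 2 ≤ o) : (o * a + 2) ^ 2 ≤ 4 * (a + 1) ^ o := by
  induction o, ho using Nat.le_induction with
  | base => ring_nf; omega
  | succ o ho ih =>
    have h1 : ((o + 1) * a + 2) ^ 2 ≤ (a + 1) * (o * a + 2) ^ 2 := by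
      nlinarith [Nat.zero_le (a * (o * a)), Nat.zero_le (a * a), Nat.mul_le_mul ho (le_refl a),
        Nat.zero_le (a * (o * a) * (o * a))]
    calc ((o + 1) * a + 2) ^ 2 ≤ (a + 1) * (o * a + 2) ^ 2 := h1
      _ ≤ (a + 1) * (4 * (a + 1) ^ o) := Nat.mul_le_mul_left _ ih
      _ = 4 * (a + 1) ^ (o + 1) := by ring

theorem le_normalizer_of_conj_mem {G : Type*} [Group G] {Y S : Subgroup G}
    (h : ∀ g ∈ Y, ∀ x ∈ S, g * x * g⁻¹ ∈ S) : Y ≤ Subgroup.normalizer (S : Set G) := by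
  intro g hg
  rw [Subgroup.mem_normalizer_iff]
  intro x
  refine ⟨fun hx => h g hg x hx, fun hx => ?_⟩
  simpa [mul_assoc] using h g⁻¹ (inv_mem hg) _ hx

/-- The elements of order dividing `r` in the centre of `R`. -/
def omegaCenter {G : Type*} [Group G] (r : ℕ) (R : Subgroup G) : Subgroup G where
  carrier := {x | x ∈ R ∧ x ^ r = 1 ∧ ∀ g ∈ R, g * x = x * g}
  one_mem' := ⟨one_mem R, one_pow r, fun g _ => by rw [mul_one, one_mul]⟩
  mul_mem' := fun {a b} ha hb => ⟨mul_mem ha.1 hb.1,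
    by rw [(show Commute a b from hb.2.2 a ha.1).mul_pow, ha.2.1, hb.2.1, one_mul],
    fun g hg => by rw [← mul_assoc, ha.2.2 g hg, mul_assoc, hb.2.2 g hg, ← mul_assoc]⟩
  inv_mem' := fun {a} ha => ⟨inv_mem ha.1, by rw [inv_pow, ha.2.1, inv_one],
    fun g hg => ((show Commute g a from ha.2.2 g hg).inv_right).eq⟩

/-- The restriction to an invariant subgroup. -/
def resHom {G U : Type*} [Group G] [CommGroup U] [MulDistribMulAction G U] (S : Subgroup G)
    (W : Subgroup U) (hW : ∀ g ∈ S, ∀ w ∈ W, g • w ∈ W) : S →* MulAut W where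
  toFun s :=
    { toFun := fun w => ⟨(s : G) • (w : U), hW s s.2 w w.2⟩
      invFun := fun w => ⟨(s : G)⁻¹ • (w : U), hW _ (inv_mem s.2) w w.2⟩
      left_inv := fun w => Subtype.ext (inv_smul_smul (s : G) (w : U))
      right_inv := fun w => Subtype.ext (smul_inv_smul (s : G) (w : U))
      map_mul' := fun a b => Subtype.ext (smul_mul' (s : G) (a : U) (b : U)) }
  map_one' := MulEquiv.ext fun w => Subtype.ext (one_smul G (w : U))
  map_mul' a b := MulEquiv.ext fun w => Subtype.ext (mul_smul (a : G) (b : G) (w : U))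

universe u v

variable {G : Type u} {U : Type v} [Group G] [CommGroup U] [MulDistribMulAction G U] [Finite G]
  [Finite U] {D : Subgroup G} [D.Normal] {p : ℕ} {Y R : Subgroup G}

/-- Covering by the classes of an element. -/
theorem index_le_classes (hY : Onto Y D) (hRD : R ≤ D) (hRY : R ≤ Y) (e : G) (Φ : Finset G)
    (h : ∀ y ∈ Y, ∃ f ∈ Φ, ∃ c ∈ R, y * e * y⁻¹ = c * f * c⁻¹) :
    D.index ≤ Φ.card * D.relIndex (Y ⊓ Subgroup.centralizer {e}) := by
  classical
  let g : Φ → G := fun f =>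
    if hf : ∃ y ∈ Y, y * e * y⁻¹ = (f : G) then hf.choose else 1
  have h1 := index_le_card_mul hY g (S := Y ⊓ Subgroup.centralizer {e}) fun y hy => ?_
  · rwa [Nat.card_eq_fintype_card, Fintype.card_coe] at h1
  obtain ⟨f, hf, c, hc, hyc⟩ := h y hy
  have hex : ∃ y ∈ Y, y * e * y⁻¹ = f := ⟨c⁻¹ * y, mul_mem (inv_mem (hRY hc)) hy, by
    rw [show c⁻¹ * y * e * (c⁻¹ * y)⁻¹ = c⁻¹ * (y * e * y⁻¹) * c by group, hyc]; group⟩
  have hg : g ⟨f, hf⟩ ∈ Y ∧ g ⟨f, hf⟩ * e * (g ⟨f, hf⟩)⁻¹ = f := by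
    simp only [g, dif_pos hex]
    exact hex.choose_spec
  refine ⟨⟨f, hf⟩, (g ⟨f, hf⟩)⁻¹ * c⁻¹ * y, Subgroup.mem_inf.2 ⟨mul_mem (mul_mem (inv_mem hg.1) (inv_mem (hRY hc))) hy,
    Subgroup.mem_centralizer_singleton_iff.2 ?_⟩, ?_⟩
  · set a := g ⟨f, hf⟩
    calc a⁻¹ * c⁻¹ * y * e = a⁻¹ * c⁻¹ * (y * e * y⁻¹) * y := by group
      _ = a⁻¹ * (a * e * a⁻¹) * c⁻¹ * y := by rw [hyc, hg.2]; group
      _ = e * (a⁻¹ * c⁻¹ * y) := by group
  · have := Subgroup.Normal.conj_mem ‹D.Normal› c (hRD hc) y⁻¹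
    simpa [mul_assoc] using this

/-- Some element of order `r` of the centre has fixed points. -/
theorem case_center (h : Aff p G U D) {r : ℕ} [Fact r.Prime] (hY : Onto Y D)
    (hYdef : Y = Subgroup.normalizer (R : Set G)) (hRD : R ≤ D)
    (hB : ∀ B : Subgroup G, B ≤ R → B ≠ ⊥ → Y ≤ Subgroup.normalizer (B : Set G) → fixS U B = ⊥)
    {x : G} (hx : x ∈ omegaCenter r R) (hx1 : x ≠ 1) (hfx : fx U x ≠ ⊥) :
    (D.index + 1) ^ 2 ≤ Nat.card U := by
  classical
  haveI := Fintype.ofFinite (Subgroup G)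
  set Z := omegaCenter r R with hZdef
  have hRY : R ≤ Y := hYdef ▸ Subgroup.le_normalizer
  have hZR : Z ≤ R := fun a ha => ha.1
  have hYR : ∀ g ∈ Y, ∀ a ∈ R, g * a * g⁻¹ ∈ R := fun g hg a ha =>
    (Subgroup.mem_normalizer_iff.1 (hYdef ▸ hg) a).1 ha
  have hYZ : Y ≤ Subgroup.normalizer (Z : Set G) := by
    refine le_normalizer_of_conj_mem fun g hg a ha => ⟨hYR g hg a ha.1, ?_, fun b hb => ?_⟩
    · rw [conj_pow, ha.2.1, mul_one, mul_inv_cancel]
    · have := ha.2.2 _ (hYR g⁻¹ (inv_mem hg) b hb)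
      calc b * (g * a * g⁻¹) = g * (g⁻¹ * b * g⁻¹⁻¹ * a) * g⁻¹ := by group
        _ = g * (a * (g⁻¹ * b * g⁻¹⁻¹)) * g⁻¹ := by rw [this]
        _ = g * a * g⁻¹ * b := by group
  have hfixZ : fixS U Z = ⊥ := hB Z hZR (fun e => hx1 (Subgroup.mem_bot.1 (e ▸ hx))) hYZ
  obtain ⟨B, hBmem, hmax⟩ := Finset.exists_max_image
    (Finset.univ.filter fun B : Subgroup G => B ≤ Z ∧ fixS U B ≠ ⊥) (fun B => Nat.card B)
    ⟨Subgroup.zpowers x, by simp [Subgroup.zpowers_le, hx, fixS_zpowers, hfx]⟩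
  simp only [Finset.mem_filter, Finset.mem_univ, true_and] at hBmem hmax
  have hB1 : B ≠ ⊥ := by
    intro e
    have := hmax (Subgroup.zpowers x) ⟨Subgroup.zpowers_le.2 hx, by rwa [fixS_zpowers]⟩
    rw [e, Subgroup.card_bot, Nat.card_zpowers,
      orderOf_eq_prime hx.2.1 hx1] at this
    have := (Fact.out : r.Prime).two_le
    omega
  -- the conjugates of `B`
  let O : Set (Subgroup G) := {B' | ∃ g ∈ Y, B.map (MulAut.conj g).toMonoidHom = B'}
  haveI : Fintype O := Fintype.ofFinite _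
  choose g hgY hgB using fun i : O => i.2
  have hsub : ∀ i : O, (i : Subgroup G) ≤ Z := by
    intro i
    rw [← hgB i]
    rintro _ ⟨a, ha, rfl⟩
    exact (Subgroup.mem_normalizer_iff.1 (hYZ (hgY i)) a).1 (hBmem.1 ha)
  have hcardB : ∀ i : O, Nat.card (i : Subgroup G) = Nat.card B := fun i => by
    rw [← hgB i]
    exact Subgroup.card_map_of_injective (MulAut.conj (g i)).injective
  set W := fixS U B with hW
  have hcardW : ∀ i : O, Nat.card (fixS U (i : Subgroup G)) = Nat.card W := fun i =>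
    card_fixS_conj (hgB i)
  set o := Nat.card O with ho
  have hBO : B ∈ O := ⟨1, one_mem _, by
    ext a
    simp⟩
  have ho2 : 2 ≤ o := by
    by_contra hlt
    haveI : Nonempty O := ⟨⟨B, hBO⟩⟩
    have h1 : o = 1 := by have : 0 < o := Nat.card_pos; omega
    haveI : Subsingleton O := (Nat.card_eq_one_iff_unique.1 h1).1
    refine hBmem.2 (hB B (hBmem.1.trans hZR) hB1 fun y hy => ?_)
    rw [Subgroup.mem_normalizer_iff_map_conj_eq]
    exact congrArg Subtype.val (Subsingleton.elim (⟨_, y, hy, rfl⟩ : O) ⟨B, hBO⟩)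
  have hprod : Nat.card W ^ o ≤ Nat.card U := by
    have h1 := prod_card_le (ι := O) (fun i => (i : Subgroup G))
      (fun i => fixS U (i : Subgroup G)) (fun i a ha w hw => mem_fixS.1 hw a ha) ?_ ?_
    · rwa [Finset.prod_congr rfl fun i _ => hcardW i, Finset.prod_const, Finset.card_univ,
        ← Nat.card_eq_fintype_card] at h1
    · intro i j a ha w hw
      refine mem_fixS.2 fun b hb => ?_
      rw [← mul_smul, (hsub i ha).2.2 b (hZR (hsub j hb)), mul_smul, mem_fixS.1 hw b hb]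
    · intro i j hij w hw hA
      have hle : (i : Subgroup G) ⊔ (j : Subgroup G) ≤ stabilizer G w :=
        sup_le (fun a ha => hA a ha) (fun a ha => mem_fixS.1 hw a ha)
      by_contra hw1
      have h2 := hmax ((i : Subgroup G) ⊔ (j : Subgroup G)) ⟨sup_le (hsub i) (hsub j), fun e => hw1 ?_⟩
      · have e1 : (j : Subgroup G) = (i : Subgroup G) ⊔ (j : Subgroup G) :=
          Subgroup.eq_of_le_of_card_ge le_sup_right (hcardB j ▸ h2)
        have e2 : (i : Subgroup G) = j :=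
          Subgroup.eq_of_le_of_card_ge (e1 ▸ le_sup_left) (by rw [hcardB i, hcardB j])
        exact hij (Subtype.ext e2)
      · rw [← Subgroup.mem_bot, ← e]
        exact mem_fixS.2 fun a ha => hle ha
  -- the stabiliser
  set S := Y ⊓ Subgroup.normalizer (B : Set G) with hS
  have hcov : D.index ≤ o * D.relIndex S := by
    refine index_le_card_mul hY g fun y hy => ⟨⟨_, y, hy, rfl⟩, (g ⟨_, y, hy, rfl⟩)⁻¹ * y,
      Subgroup.mem_inf.2 ⟨mul_mem (inv_mem (hgY _)) hy, ?_⟩, by rw [mul_inv_cancel_left, inv_mul_cancel]; exact one_mem D⟩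
    have e := hgB (⟨_, y, hy, rfl⟩ : O)
    set a := g (⟨_, y, hy, rfl⟩ : O)
    rw [Subgroup.mem_normalizer_iff]
    intro b
    have e' : ∀ c, y * c * y⁻¹ ∈ B.map (MulAut.conj y).toMonoidHom ↔ c ∈ B := fun c =>
      Subgroup.mem_map_iff_mem (f := (MulAut.conj y).toMonoidHom) (MulAut.conj y).injective
    have e'' : ∀ c, a * c * a⁻¹ ∈ B.map (MulAut.conj a).toMonoidHom ↔ c ∈ B := fun c =>
      Subgroup.mem_map_iff_mem (f := (MulAut.conj a).toMonoidHom) (MulAut.conj a).injective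
    rw [← e' b, ← e'' (a⁻¹ * y * b * (a⁻¹ * y)⁻¹), e]
    simp [mul_assoc]
  have hWinv : ∀ a ∈ S, ∀ w ∈ W, a • w ∈ W := fun a ha w hw => smul_mem_fixS ha.2 hw
  obtain ⟨w, hw, hw1⟩ := (Subgroup.ne_bot_iff_exists_ne_one.1 hBmem.2 |> fun ⟨a, ha⟩ =>
    (⟨a, a.2, fun e => ha (Subtype.ext e)⟩ : ∃ a : U, a ∈ W ∧ a ≠ 1))
  obtain ⟨z, hz, hzw⟩ : ∃ z ∈ Z, z • w ≠ w := by
    by_contra hh
    push Not at hh
    exact hw1 (Subgroup.mem_bot.1 (hfixZ ▸ mem_fixS.2 hh))
  have hzS : z ∈ S ⊓ D := by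
    refine Subgroup.mem_inf.2 ⟨Subgroup.mem_inf.2 ⟨hRY (hZR hz), ?_⟩, hRD (hZR hz)⟩
    rw [Subgroup.mem_normalizer_iff]
    intro b
    constructor
    · intro hb
      rwa [← hz.2.2 b (hZR (hBmem.1 hb)), mul_inv_cancel_right]
    · intro hb
      have h2 := hz.2.2 _ (hZR (hBmem.1 hb))
      have : b = z * b * z⁻¹ := by
        rw [← mul_left_cancel_iff (a := z)]
        calc z * b = z * b * z⁻¹ * z := by group
          _ = z * (z * b * z⁻¹) := h2
      exact this ▸ hb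
  have h1 := relIndex_mul_relIndex_le (D := D) hWinv hw hw1
    (fun a _ ha => by_contra fun haD => hw1 (h.fpf a haD w ha))
  have h2 := two_le_relIndex hzS hzw
  have h3 : 2 * D.relIndex S + 1 ≤ Nat.card W := by
    have := Nat.mul_le_mul_left (D.relIndex S) h2
    omega
  obtain ⟨a, ha⟩ : ∃ a, Nat.card W = a + 1 := ⟨Nat.card W - 1, by omega⟩
  have h4 : 2 * D.index ≤ o * a := by
    calc 2 * D.index ≤ 2 * (o * D.relIndex S) := Nat.mul_le_mul_left 2 hcov
      _ = o * (2 * D.relIndex S) := by ring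
      _ ≤ o * a := Nat.mul_le_mul_left o (by omega)
  have h5 := add_two_sq_le a o ho2
  rw [← ha] at h5
  have h6 : (2 * D.index + 2) ^ 2 ≤ (o * a + 2) ^ 2 := Nat.pow_le_pow_left (by omega) 2
  have h7 : (2 * D.index + 2) ^ 2 = 4 * (D.index + 1) ^ 2 := by ring
  omega

/-- What is left when no bound follows directly. -/
def Rest (p : ℕ) (U : Type v) [CommGroup U] (v' : ℕ) (k : ℕ) : Prop :=
  ∃ r q s k1 : ℕ, r.Prime ∧ q ^ r ≤ Nat.card U ∧ k ≤ s * k1 ∧ k1 + 1 ≤ q ∧ s ≤ v' * v' ∧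
    (r = 2 → ∃ (W : Subgroup U) (G' : Subgroup (MulAut W)) (D' : Subgroup G'),
      D'.Normal ∧ Aff p G' W D' ∧ D'.index = k1 ∧ Nat.card W = q)

/-- The elements of order `r` centralised by `R` modulo `⟨z⟩`. -/
def Modz (r : ℕ) (R : Subgroup G) (z e : G) : Prop :=
  e ∈ R ∧ e ^ r = 1 ∧ e ∉ Subgroup.zpowers z ∧ ∀ g ∈ R, g * e * g⁻¹ * e⁻¹ ∈ Subgroup.zpowers z

variable {r : ℕ} [hr : Fact r.Prime] {z : G}

theorem exists_conj_eq (hzr : z ^ r = 1) (hzc : ∀ g ∈ R, g * z = z * g)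
    (hZ : omegaCenter r R = Subgroup.zpowers z) {e : G} (he : Modz r R z e) :
    ∃ g ∈ R, g * e * g⁻¹ = e * z := by
  obtain ⟨g, hg, hge⟩ : ∃ g ∈ R, g * e ≠ e * g := by
    by_contra hh
    push Not at hh
    exact he.2.2.1 (hZ ▸ (⟨he.1, he.2.1, hh⟩ : e ∈ omegaCenter r R))
  set c := g * e * g⁻¹ * e⁻¹ with hc
  have hc1 : c ≠ 1 := fun e1 => hge (by
    rw [hc, mul_inv_eq_one] at e1
    exact mul_inv_eq_iff_eq_mul.1 e1)
  have hcz : c ∈ Subgroup.zpowers z := he.2.2.2 g hg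
  have hce : e * c = c * e := by
    obtain ⟨i, hi⟩ := Subgroup.mem_zpowers_iff.1 hcz
    rw [← hi]
    exact ((show Commute e z from hzc e he.1).zpow_right i).eq
  have hgc : g * c = c * g := by
    obtain ⟨i, hi⟩ := Subgroup.mem_zpowers_iff.1 hcz
    rw [← hi]
    exact ((show Commute g z from hzc g hg).zpow_right i).eq
  have hz1 : z ≠ 1 := fun e1 => hc1 (by rw [e1, Subgroup.zpowers_one_eq_bot] at hcz; exact hcz)
  have hzc' : z ∈ Subgroup.zpowers c := by
    have hcr : c ^ r = 1 := by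
      obtain ⟨i, hi⟩ := Subgroup.mem_zpowers_iff.1 hcz
      rw [← hi, ← zpow_natCast, ← zpow_mul, mul_comm, zpow_mul, zpow_natCast, hzr, one_zpow]
    rw [Subgroup.eq_of_le_of_card_ge (Subgroup.zpowers_le.2 hcz) (by
      rw [Nat.card_zpowers, Nat.card_zpowers, orderOf_eq_prime hcr hc1, orderOf_eq_prime hzr hz1])]
    exact Subgroup.mem_zpowers z
  obtain ⟨b, hb⟩ := (mem_powers_iff_mem_zpowers (x := c) (y := z)).2 hzc'
  refine ⟨g ^ b, pow_mem hg b, ?_⟩
  rw [← show c ^ b = z from hb]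
  exact conj_pow_eq (by rw [hce, hc, inv_mul_cancel_right]) hgc b

/-- No element of order `r` is centralised by `R` modulo `⟨z⟩`. -/
theorem case_dihedral (h : Aff p G U D) (hY : Onto Y D)
    (hYdef : Y = Subgroup.normalizer (R : Set G)) (hRD : R ≤ D) (hRp : IsPGroup r R)
    (hzr : z ^ r = 1) (hz1 : z ≠ 1) (hz : ∀ u : U, z • u = u → u = 1)
    (hZ : omegaCenter r R = Subgroup.zpowers z) {y : G} (hy : y ∈ R) (hyr : y ^ r = 1)
    (hy1 : y ≠ 1) (hyf : fx U y ≠ ⊥) (hE : ∀ e, ¬ Modz r R z e) :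
    (D.index + 1) ^ 2 ≤ Nat.card U := by
  classical
  have hzZ : z ∈ omegaCenter r R := hZ ▸ Subgroup.mem_zpowers z
  have hzR : z ∈ R := hzZ.1
  have hzc : ∀ g ∈ R, g * z = z * g := hzZ.2.2
  have hRY : R ≤ Y := hYdef ▸ Subgroup.le_normalizer
  have hYR : ∀ g ∈ Y, ∀ a ∈ R, g * a * g⁻¹ ∈ R := fun g hg a ha =>
    (Subgroup.mem_normalizer_iff.1 (hYdef ▸ hg) a).1 ha
  have hyz : y ∉ Subgroup.zpowers z := fun hh => hyf ((Subgroup.eq_bot_iff_forall _).2 fun u hu =>
    eq_one_of_fixed_zpowers hzr hz hh hy1 hu)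
  set zR : R := ⟨z, hzR⟩ with hzR'
  set yR : R := ⟨y, hy⟩ with hyR'
  have hzcR : zR ∈ Subgroup.center R := Subgroup.mem_center_iff.2 fun a => Subtype.ext (hzc a a.2)
  have hzp : ∀ a : R, a ∈ Subgroup.zpowers zR ↔ (a : G) ∈ Subgroup.zpowers z := by
    intro a
    simp only [Subgroup.mem_zpowers_iff, Subtype.ext_iff, Subgroup.coe_zpow, hzR']
  -- normal abelian subgroups are cyclic
  have hn : ∀ A : Subgroup R, A.Normal → IsMulCommutative A → IsCyclic A := by
    intro A hAn hAc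
    have hcomm : ∀ a b : A, Commute a b := fun a b => hAc.is_comm.comm a b
    refine CfsgLib.TwoGroupsQ.isCyclic_of_comm (hRp.to_subgroup A) ?_ hcomm
    have key : ∀ a : A, a ^ r = 1 → (a : R) ∈ Subgroup.zpowers zR := by
      by_contra hh
      push Not at hh
      obtain ⟨a₀, ha₀, ha₀z⟩ := hh
      let M : Subgroup R :=
        { carrier := {a | a ∈ A ∧ a ^ r = 1}
          one_mem' := ⟨one_mem A, one_pow r⟩
          mul_mem' := fun {a b} ha hb => ⟨mul_mem ha.1 hb.1, by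
            rw [(show Commute a b from congrArg Subtype.val (hcomm ⟨a, ha.1⟩ ⟨b, hb.1⟩)).mul_pow,
              ha.2, hb.2, one_mul]⟩
          inv_mem' := fun {a} ha => ⟨inv_mem ha.1, by rw [inv_pow, ha.2, inv_one]⟩ }
      haveI : M.Normal := ⟨fun a ha b => ⟨hAn.conj_mem a ha.1 b, by
        rw [conj_pow, ha.2, mul_one, mul_inv_cancel]⟩⟩
      haveI : (Subgroup.zpowers zR).Normal := ⟨fun a ha b => by
        rw [Subgroup.mem_center_iff.1 (Subgroup.zpowers_le.2 hzcR ha) b, mul_inv_cancel_right]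
        exact ha⟩
      set π := QuotientGroup.mk' (Subgroup.zpowers zR)
      haveI : (M.map π).Normal := Subgroup.Normal.map ‹_› π (QuotientGroup.mk'_surjective _)
      haveI : Nontrivial (M.map π) := by
        rw [Subgroup.nontrivial_iff_ne_bot]
        intro e
        refine ha₀z ((QuotientGroup.eq_one_iff _).1 (Subgroup.mem_bot.1 (e ▸ Subgroup.mem_map_of_mem π
          (show (a₀ : R) ∈ M from ⟨a₀.2, congrArg Subtype.val ha₀⟩))))
      obtain ⟨q, hq, hq1⟩ := CfsgLib.BlocksCharsC.exists_mem_ne_one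
        (CfsgLib.BlocksCharsC.inf_center_ne_bot (hRp.to_quotient (Subgroup.zpowers zR)) (M.map π))
      obtain ⟨a, ha, rfl⟩ := hq.1
      refine hE (a : G) ⟨a.2, congrArg Subtype.val ha.2,
        fun hh => hq1 ((QuotientGroup.eq_one_iff _).2 ((hzp a).2 hh)), fun b hb => ?_⟩
      have := Subgroup.mem_center_iff.1 hq.2 (π ⟨b, hb⟩)
      rw [← mul_inv_eq_one, ← map_mul, ← map_mul, ← map_inv, ← map_mul] at this
      have h2 := (hzp _).1 ((QuotientGroup.eq_one_iff _).1 this)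
      simpa [mul_inv_rev, mul_assoc] using h2
    intro a b ha hb hb1
    have hb' := key b hb
    have e : Subgroup.zpowers (b : R) = Subgroup.zpowers zR := by
      refine Subgroup.eq_of_le_of_card_ge (Subgroup.zpowers_le.2 hb') ?_
      rw [Nat.card_zpowers, Nat.card_zpowers,
        orderOf_eq_prime (congrArg Subtype.val hb) (fun e => hb1 (Subtype.ext e)),
        orderOf_eq_prime (Subtype.ext hzr) (fun e => hz1 (congrArg Subtype.val e))]
    obtain ⟨i, hi⟩ := Subgroup.mem_zpowers_iff.1 (e ▸ key a ha : (a : R) ∈ Subgroup.zpowers (b : R))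
    exact ⟨i, Subtype.ext (by simpa using hi)⟩
  have hr2 : r = 2 := (exists_cyclic_index_two (z := zR) (y := yR) hRp hn (Subtype.ext hzr)
    (fun e => hz1 (congrArg Subtype.val e)) (Subtype.ext hyr) (fun hh => hyz ((hzp yR).1 hh))
    (Subtype.ext (hzc y hy).symm)).1
  subst hr2
  obtain ⟨⟨g₀, hg₀⟩, f₁, f₂, hf⟩ := involution_classes (z := zR) (y := yR) hRp hn (Subtype.ext hzr)
    (fun e => hz1 (congrArg Subtype.val e)) hzcR (Subtype.ext hyr) (fun hh => hyz ((hzp yR).1 hh))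
  set S := Y ⊓ Subgroup.centralizer {y} with hS
  have hcov : D.index ≤ 2 * D.relIndex S := by
    refine le_trans (index_le_classes hY hRD hRY y {(f₁ : G), (f₂ : G)} fun a ha => ?_)
      (Nat.mul_le_mul_right _ Finset.card_le_two)
    set x : R := ⟨a * y * a⁻¹, hYR a ha y hy⟩
    have hx2 : x ^ 2 = 1 := Subtype.ext (by
      show (a * y * a⁻¹) ^ 2 = 1
      rw [conj_pow, hyr, mul_one, mul_inv_cancel])
    have hxc : x ∉ Subgroup.center R := by
      intro hxc
      refine hyz (hZ ▸ (⟨hy, hyr, fun b hb => ?_⟩ : y ∈ omegaCenter 2 R))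
      have := congrArg Subtype.val (Subgroup.mem_center_iff.1 hxc ⟨_, hYR a ha b hb⟩)
      change a * b * a⁻¹ * (a * y * a⁻¹) = a * y * a⁻¹ * (a * b * a⁻¹) at this
      have h2 : a * (b * y) * a⁻¹ = a * (y * b) * a⁻¹ := by
        calc a * (b * y) * a⁻¹ = a * b * a⁻¹ * (a * y * a⁻¹) := by group
          _ = a * y * a⁻¹ * (a * b * a⁻¹) := this
          _ = a * (y * b) * a⁻¹ := by group
      exact mul_left_cancel (mul_right_cancel h2)
    obtain ⟨c, hc | hc⟩ := hf x hx2 hxc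
    · exact ⟨f₁, Finset.mem_insert_self _ _, c, c.2, congrArg Subtype.val hc⟩
    · exact ⟨f₂, Finset.mem_insert_of_mem (Finset.mem_singleton_self _), c, c.2, congrArg Subtype.val hc⟩
  have hWinv : ∀ a ∈ S, ∀ w ∈ fx U y, a • w ∈ fx U y := fun a ha w hw =>
    smul_mem_fx_self (Subgroup.mem_centralizer_singleton_iff.1 ha.2) hw
  obtain ⟨w, hw⟩ := Subgroup.ne_bot_iff_exists_ne_one.1 hyf
  have hw1 : (w : U) ≠ 1 := fun e => hw (Subtype.ext e)
  have hzS : z ∈ S ⊓ D := ⟨⟨hRY hzR, Subgroup.mem_centralizer_singleton_iff.2 (hzc y hy).symm⟩,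
    hRD hzR⟩
  have h1 := relIndex_mul_relIndex_le (D := D) hWinv w.2 hw1
    (fun a _ ha => by_contra fun haD => hw1 (h.fpf a haD _ ha))
  have h2 := two_le_relIndex hzS (fun e => hw1 (hz _ e))
  have h3 : 2 * D.relIndex S + 1 ≤ Nat.card (fx U y) := by
    have := Nat.mul_le_mul_left (D.relIndex S) h2
    omega
  have h4 := card_fx_pow_le (g := (g₀ : G)) hzr hz1 hz (hzc y hy) (congrArg Subtype.val hg₀)
    (hzc _ g₀.2)
  exact (Nat.pow_le_pow_left (by omega : D.index + 1 ≤ Nat.card (fx U y)) 2).trans h4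

/-- Semiregular centraliser: the number of classes is at most the size of an orbit. -/
theorem classes_le_orbit [Fact (Nat.Prime 2)] [Fact p.Prime] (h : Aff p G U D) (hp2 : p ≠ 2)
    (hzr : z ^ 2 = 1) (hz1 : z ≠ 1) (hz : ∀ u : U, z • u = u → u = 1)
    (hzR : z ∈ R) (hzc : ∀ g ∈ R, g * z = z * g) {e g₀ : G} (he : Modz 2 R z e) (hg₀ : g₀ ∈ R)
    (hge : g₀ * e * g₀⁻¹ = e * z)
    (hsemi : ∀ c ∈ R ⊓ Subgroup.centralizer {e}, ∀ w ∈ fx U e, w ≠ 1 → c • w = w →
      ∀ w' ∈ fx U e, c • w' = w')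
    {w : U} (hw : w ∈ fx U e) (hw1 : w ≠ 1) (E : Finset G) (hE : ∀ x ∈ E, Modz 2 R z x) :
    E.card ≤ 2 * (stabilizer G w).relIndex (R ⊓ Subgroup.centralizer {e}) := by
  classical
  set C := R ⊓ Subgroup.centralizer {e} with hC
  set W := fx U e with hWdef
  have hez : e * z = z * e := hzc e he.1
  have hzz : z⁻¹ = z := inv_eq_of_mul_eq_one_right (by rw [← pow_two, hzr])
  have hzpow : ∀ a ∈ Subgroup.zpowers z, a = 1 ∨ a = z := by
    intro a ha
    obtain ⟨i, rfl⟩ := Subgroup.mem_zpowers_iff.1 ha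
    rcases Int.even_or_odd i with ⟨t, rfl⟩ | ⟨t, rfl⟩
    · left; rw [← two_mul, zpow_mul, zpow_two, ← pow_two, hzr, one_zpow]
    · right; rw [zpow_add, zpow_mul, zpow_two, ← pow_two, hzr, one_zpow, one_mul, zpow_one]
  have hCcomm : ∀ c ∈ C, c * e = e * c := fun c hc => Subgroup.mem_centralizer_singleton_iff.1 hc.2
  have hCW : ∀ c ∈ C, ∀ a ∈ W, c • a ∈ W := fun c hc a ha => smul_mem_fx_self (hCcomm c hc) ha
  have hzC : z ∈ C := ⟨hzR, Subgroup.mem_centralizer_singleton_iff.2 hez.symm⟩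
  -- agreement on both fixed subgroups
  have hagree : ∀ a b : G, (∀ v ∈ W, a • v = b • v) → (∀ v ∈ fx U (e * z), a • v = b • v) → a = b := by
    intro a b h1 h2
    have hall : ∀ u : U, (b⁻¹ * a) • u = u := by
      intro u
      have hle : ⨆ i : Fin 2, fx U (e * z ^ (i : ℕ)) ≤ fx U (b⁻¹ * a) := by
        refine iSup_le fun i v hv => ?_
        rw [mem_fx, mul_smul, inv_smul_eq_iff]
        fin_cases i
        · simp only [pow_zero, mul_one] at hv; exact h1 v hv
        · simp only [pow_one] at hv; exact h2 v hv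
      exact hle (mem_iSup_fx hzr he.2.1 hz1 hz hez h.exp hp2 u)
    exact (inv_mul_eq_one.1 (h.faith _ hall)).symm
  -- involutions act as `1` or `z`
  have hinv : ∀ a : G, a ^ 2 = 1 → (∀ v ∈ W, a • v ∈ W) →
      (∀ v ∈ W, a • v = v → v = 1) → ∀ v ∈ W, a • v = v⁻¹ := by
    intro a ha hst hfp v hv
    have : v * a • v = 1 := hfp _ (mul_mem hv (hst v hv)) (by
      rw [smul_mul', ← mul_smul, ← pow_two, ha, one_smul, mul_comm])
    exact eq_inv_of_mul_eq_one_right this
  have honW : ∀ a ∈ C, a ^ 2 = 1 → (∀ v ∈ W, a • v = v) ∨ (∀ v ∈ W, a • v = z • v) := by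
    intro a ha ha2
    by_cases hh : ∃ v ∈ W, v ≠ 1 ∧ a • v = v
    · obtain ⟨v, hv, hv1, hav⟩ := hh
      exact Or.inl (hsemi a ha v hv hv1 hav)
    · push Not at hh
      right
      intro v hv
      rw [hinv a ha2 (hCW a ha) (fun x hx e1 => by_contra fun hx1 => hh x hx hx1 e1) v hv,
        hinv z hzr (hCW z hzC) (fun x _ e1 => hz x e1) v hv]
  have hzg₀ : g₀ * z = z * g₀ := hzc g₀ hg₀
  have honW' : ∀ a ∈ C, a ^ 2 = 1 → (∀ v ∈ fx U (e * z), a • v = v) ∨
      (∀ v ∈ fx U (e * z), a • v = z • v) := by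
    intro a ha ha2
    have haz : a * (e * z) = e * z * a := by
      rw [← mul_assoc, hCcomm a ha, mul_assoc, hzc a ha.1, ← mul_assoc]
    have ha' : g₀⁻¹ * a * g₀ ∈ C := by
      refine Subgroup.mem_inf.2 ⟨mul_mem (mul_mem (inv_mem hg₀) ha.1) hg₀, Subgroup.mem_centralizer_singleton_iff.2 ?_⟩
      calc g₀⁻¹ * a * g₀ * e = g₀⁻¹ * (a * (g₀ * e * g₀⁻¹)) * g₀ := by group
        _ = g₀⁻¹ * ((g₀ * e * g₀⁻¹) * a) * g₀ := by rw [hge, haz]
        _ = e * (g₀⁻¹ * a * g₀) := by group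
    have hback : ∀ v ∈ fx U (e * z), g₀⁻¹ • v ∈ W := fun v hv =>
      smul_mem_fx (by rw [← hge]; group) hv
    have ha'2 : (g₀⁻¹ * a * g₀) ^ 2 = 1 := by
      have e1 := conj_pow (a := g₀⁻¹) (b := a) (i := 2)
      rw [inv_inv] at e1
      rw [e1, ha2, mul_one, inv_mul_cancel]
    rcases honW _ ha' ha'2 with h1 | h1
    · left
      intro v hv
      have := h1 _ (hback v hv)
      rwa [mul_smul, mul_smul, smul_inv_smul, smul_left_cancel_iff] at this
    · right
      intro v hv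
      have := h1 _ (hback v hv)
      rw [mul_smul, mul_smul, smul_inv_smul, inv_smul_eq_iff, ← mul_smul, hzg₀, mul_smul,
        smul_inv_smul] at this
      exact this
  have hin : ∀ x ∈ E, x ∈ C → x = e ∨ x = e * z := by
    intro x hx hxC
    have hxE := hE x hx
    rcases honW x hxC hxE.2.1 with h1 | h1 <;> rcases honW' x hxC hxE.2.1 with h2 | h2
    · exact absurd (hagree x 1 (fun v hv => by rw [one_smul]; exact h1 v hv)
        (fun v hv => by rw [one_smul]; exact h2 v hv) ▸ one_mem _) hxE.2.2.1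
    · refine Or.inl (hagree x e (fun v hv => (h1 v hv).trans (mem_fx.1 hv).symm) fun v hv => ?_)
      have h3 : (e * z) • v = v := hv
      have h4 : e • v = z • v := by
        have := congrArg (fun a => z • a) h3
        simp only [← mul_smul] at this
        rwa [← mul_assoc, ← hez, mul_assoc, ← pow_two, hzr, mul_one] at this
      rw [h2 v hv, h4]
    · refine Or.inr (hagree x (e * z) (fun v hv => ?_) fun v hv => (h2 v hv).trans (mem_fx.1 hv).symm)
      rw [h1 v hv, hez, mul_smul, mem_fx.1 hv]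
    · exact absurd (hagree x z h1 h2 ▸ Subgroup.mem_zpowers z) hxE.2.2.1
  have hsplit : E.card = (E.filter (· ∈ C)).card + (E.filter fun x => x ∉ C).card :=
    (Finset.card_filter_add_card_filter_not _).symm
  have h1 : (E.filter (· ∈ C)).card ≤ 2 := by
    refine le_trans (Finset.card_le_card (t := {e, e * z}) fun x hx => ?_) Finset.card_le_two
    simp only [Finset.mem_filter] at hx
    rcases hin x hx.1 hx.2 with rfl | rfl <;> simp
  have h2 : (E.filter fun x => x ∉ C).card ≤ (stabilizer G w).relIndex C := by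
    rw [Subgroup.relIndex, show (stabilizer G w).subgroupOf C = stabilizer C w from rfl,
      index_stabilizer]
    rcases (E.filter fun x => x ∉ C).eq_empty_or_nonempty with h0 | ⟨x₀, hx₀⟩
    · simp [h0]
    have hflip : ∀ x ∈ E.filter (fun x => x ∉ C), x ∈ R ∧ x⁻¹ = x ∧ x * e * x⁻¹ = e * z := by
      intro x hx
      simp only [Finset.mem_filter] at hx
      have hxE := hE x hx.1
      refine ⟨hxE.1, inv_eq_of_mul_eq_one_right (by rw [← pow_two, hxE.2.1]), ?_⟩
      rcases hzpow _ (he.2.2.2 x hxE.1) with h0 | h0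
      · exact absurd ⟨hxE.1, Subgroup.mem_centralizer_singleton_iff.2
          (mul_inv_eq_iff_eq_mul.1 (mul_inv_eq_one.1 h0))⟩ hx.2
      · rw [hez, ← h0, inv_mul_cancel_right]
    obtain ⟨hR₀, hinv₀, hflip₀⟩ := hflip x₀ hx₀
    have hcC : ∀ x ∈ E.filter (fun x => x ∉ C), x₀ * x ∈ C := by
      intro x hx
      obtain ⟨hR, hxi, hxf⟩ := hflip x hx
      refine Subgroup.mem_inf.2 ⟨mul_mem hR₀ hR, Subgroup.mem_centralizer_singleton_iff.2 ?_⟩
      have h3 : x₀ * (e * z) * x₀⁻¹ = e := by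
        calc x₀ * (e * z) * x₀⁻¹ = x₀ * (x₀ * e * x₀⁻¹) * x₀⁻¹ := by rw [hflip₀]
          _ = (x₀ * x₀) * e * (x₀ * x₀)⁻¹ := by group
          _ = e := by
            rw [show x₀ * x₀ = 1 from by nth_rw 1 [← hinv₀]; exact inv_mul_cancel x₀]; group
      calc x₀ * x * e = x₀ * (x * e * x⁻¹) * x₀⁻¹ * (x₀ * x) := by group
        _ = e * (x₀ * x) := by rw [hxf, h3]
    rw [← Set.ncard_coe_finset]
    refine Set.ncard_le_ncard_of_injOn (fun x => (x₀ * x) • w)
      (fun x hx => ⟨⟨x₀ * x, hcC x hx⟩, rfl⟩) ?_ (Set.toFinite _)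
    intro x hx x' hx' e1
    simp only [Finset.mem_coe] at hx hx'
    set c := x₀ * x with hc
    set c' := x₀ * x' with hc'
    have hcc : ∀ v ∈ W, c • v = c' • v := by
      intro v hv
      have h3 : (c⁻¹ * c') • w = w := by
        rw [mul_smul, inv_smul_eq_iff]
        exact e1.symm
      have := hsemi _ (mul_mem (inv_mem (hcC x hx)) (hcC x' hx')) w hw hw1 h3 v hv
      rw [mul_smul, inv_smul_eq_iff] at this
      exact this.symm
    have hcc' : ∀ v ∈ fx U (e * z), c • v = c' • v := by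
      intro v hv
      have hback : x₀ • v ∈ W := by
        refine smul_mem_fx ?_ hv
        calc x₀ * (e * z) * x₀⁻¹ = x₀ * (x₀ * e * x₀⁻¹) * x₀⁻¹ := by rw [hflip₀]
          _ = (x₀ * x₀) * e * (x₀ * x₀)⁻¹ := by group
          _ = e := by
            rw [show x₀ * x₀ = 1 from by nth_rw 1 [← hinv₀]; exact inv_mul_cancel x₀]; group
      have hflipmul : ∀ y ∈ E.filter (fun x => x ∉ C), x₀ * y = x₀ * (x₀ * y)⁻¹ * x₀ := by
        intro y hy
        obtain ⟨-, hyi, -⟩ := hflip y hy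
        rw [mul_inv_rev, hyi, hinv₀, mul_assoc, mul_assoc, show x₀ * x₀ = 1 from by
          nth_rw 1 [← hinv₀]; exact inv_mul_cancel x₀, mul_one]
      have hinvW : c⁻¹ • (x₀ • v) = c'⁻¹ • (x₀ • v) := by
        have h5 := hcc _ (hCW _ (inv_mem (hcC x hx)) _ hback)
        rw [smul_inv_smul] at h5
        rw [eq_comm, inv_smul_eq_iff]
        exact h5
      rw [hc, hc', hflipmul x hx, hflipmul x' hx', mul_smul, mul_smul, mul_smul, mul_smul,
        ← hc, ← hc', hinvW]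
    exact mul_left_cancel (hagree c c' hcc hcc')
  have h3 : 2 ≤ (stabilizer G w).relIndex C := two_le_relIndex hzC fun e1 => hw1 (hz w e1)
  omega

/-- Some element of order `r` is centralised by `R` modulo `⟨z⟩`. -/
theorem case_classes [Fact p.Prime] (h : Aff p G U D) {v' : ℕ} (hv : Nat.card U = p ^ v')
    (hv1 : 1 ≤ v') (hpr : p ≠ r) (hY : Onto Y D)
    (hYdef : Y = Subgroup.normalizer (R : Set G)) (hRD : R ≤ D)
    (hzr : z ^ r = 1) (hz1 : z ≠ 1) (hz : ∀ u : U, z • u = u → u = 1)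
    (hZ : omegaCenter r R = Subgroup.zpowers z) {e : G} (he : Modz r R z e) :
    (D.index + 1) ^ 2 ≤ Nat.card U ∨ Rest p U v' D.index := by
  classical
  haveI := Fintype.ofFinite G
  have hzZ : z ∈ omegaCenter r R := hZ ▸ Subgroup.mem_zpowers z
  have hzR : z ∈ R := hzZ.1
  have hzc : ∀ g ∈ R, g * z = z * g := hzZ.2.2
  have hRY : R ≤ Y := hYdef ▸ Subgroup.le_normalizer
  have hYR : ∀ g ∈ Y, ∀ a ∈ R, g * a * g⁻¹ ∈ R := fun g hg a ha =>
    (Subgroup.mem_normalizer_iff.1 (hYdef ▸ hg) a).1 ha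
  have hzY : ∀ g ∈ Y, ∀ a ∈ Subgroup.zpowers z, g * a * g⁻¹ ∈ Subgroup.zpowers z := by
    intro g hg a ha
    rw [← hZ] at ha ⊢
    refine ⟨hYR g hg a ha.1, by rw [conj_pow, ha.2.1, mul_one, mul_inv_cancel], fun b hb => ?_⟩
    have := ha.2.2 _ (hYR g⁻¹ (inv_mem hg) b hb)
    calc b * (g * a * g⁻¹) = g * (g⁻¹ * b * g⁻¹⁻¹ * a) * g⁻¹ := by group
      _ = g * (a * (g⁻¹ * b * g⁻¹⁻¹)) * g⁻¹ := by rw [this]
      _ = g * a * g⁻¹ * b := by group
  have hzmem : ∀ x, Modz r R z x → ∀ a ∈ Subgroup.zpowers z, Modz r R z (x * a) := by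
    intro x hx a ha
    obtain ⟨i, rfl⟩ := Subgroup.mem_zpowers_iff.1 ha
    refine ⟨mul_mem hx.1 (zpow_mem hzR i), ?_, fun hh => hx.2.2.1 ?_, fun g hg => ?_⟩
    · rw [((show Commute x z from hzc x hx.1).zpow_right i).mul_pow, hx.2.1, one_mul,
        ← zpow_natCast, ← zpow_mul, mul_comm, zpow_mul, zpow_natCast, hzr, one_zpow]
    · simpa using mul_mem hh (inv_mem ha)
    · have e1 : g * (x * z ^ i) * g⁻¹ * (x * z ^ i)⁻¹ = g * x * g⁻¹ * x⁻¹ := by
        have h1 : z ^ i * g⁻¹ = g⁻¹ * z ^ i :=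
          ((show Commute g z from hzc g hg).inv_left.zpow_right i).eq.symm
        rw [mul_inv_rev, ← mul_assoc g x, mul_assoc (g * x) (z ^ i), h1]
        group
      rw [e1]
      exact hx.2.2.2 g hg
  set E : Finset G := Finset.univ.filter fun x => Modz r R z x with hE
  set N := Subgroup.zpowers z
  set Φ : Finset G := (E.image (QuotientGroup.mk (s := N))).image Quotient.out with hΦ
  have hΦE : ∀ f ∈ Φ, Modz r R z f := by
    intro f hf
    simp only [Φ, Finset.mem_image, E, Finset.mem_filter, Finset.mem_univ, true_and] at hf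
    obtain ⟨_, ⟨x, hx, rfl⟩, rfl⟩ := hf
    obtain ⟨m, hm⟩ := QuotientGroup.mk_out_eq_mul N x
    exact hm ▸ hzmem x hx m m.2
  have hΦuniq : ∀ f ∈ Φ, ∀ f' ∈ Φ, f⁻¹ * f' ∈ N → f = f' := by
    intro f hf f' hf' hff
    simp only [Φ, Finset.mem_image] at hf hf'
    obtain ⟨q, -, rfl⟩ := hf
    obtain ⟨q', -, rfl⟩ := hf'
    have := QuotientGroup.eq.2 hff
    rw [QuotientGroup.out_eq', QuotientGroup.out_eq'] at this
    rw [this]
  have hs : Φ.card ≤ v' * v' := by
    refine card_le_sq h.exp hv hv1 hzr hz hzc Φ (fun f hf g hg =>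
      ⟨_, (hΦE f hf).2.2.2 g hg, by group⟩) fun f hf f' hf' hne => ?_
    by_contra hh
    push Not at hh
    apply hne
    refine hΦuniq f hf f' hf' ?_
    have hcomm : ∀ g ∈ R, g * (f⁻¹ * f') = f⁻¹ * f' * g := by
      intro g hg
      obtain ⟨c, -, h1, h2⟩ := hh g hg
      have e2 : g * (f⁻¹ * f') * g⁻¹ = (g * f * g⁻¹)⁻¹ * (g * f' * g⁻¹) := by group
      rw [← mul_inv_eq_iff_eq_mul, e2, h1, h2]
      group
    have hd : f⁻¹ * f' ∈ R := mul_mem (inv_mem (hΦE f hf).1) (hΦE f' hf').1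
    have hdr : (f⁻¹ * f') ^ r = 1 := by
      have h3 : Commute f (f⁻¹ * f') := hcomm f (hΦE f hf).1
      have := h3.mul_pow r
      rw [mul_inv_cancel_left, (hΦE f hf).2.1, (hΦE f' hf').2.1, one_mul] at this
      exact this.symm
    exact hZ ▸ (⟨hd, hdr, hcomm⟩ : f⁻¹ * f' ∈ omegaCenter r R)
  have hΦr : r * Φ.card ≤ E.card := by
    haveI := Fintype.ofFinite N
    have hcN : Fintype.card N = r := by
      rw [← Nat.card_eq_fintype_card, Nat.card_zpowers, orderOf_eq_prime hzr hz1]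
    rw [← hcN, ← Finset.card_univ, mul_comm, ← Finset.card_product]
    refine Finset.card_le_card_of_injOn (fun x => x.1 * (x.2 : G)) (fun x hx => ?_) ?_
    · simp only [Finset.mem_coe, Finset.mem_product, Finset.mem_univ, and_true] at hx
      exact Finset.mem_filter.2 ⟨Finset.mem_univ _, hzmem _ (hΦE _ hx) _ x.2.2⟩
    · rintro ⟨f, a⟩ hf ⟨f', a'⟩ hf' e1
      simp only [Finset.mem_coe, Finset.mem_product, Finset.mem_univ, and_true] at hf hf'
      simp only at e1
      have : f⁻¹ * f' ∈ N := by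
        rw [show f⁻¹ * f' = (a : G) * (a' : G)⁻¹ by
          rw [eq_mul_inv_iff_mul_eq, mul_assoc, ← e1, inv_mul_cancel_left]]
        exact mul_mem a.2 (inv_mem a'.2)
      obtain rfl := hΦuniq f hf f' hf' this
      exact Prod.ext rfl (Subtype.ext (mul_left_cancel e1))
  obtain ⟨g, hg, hge⟩ := exists_conj_eq hzr hzc hZ he
  set S := Y ⊓ Subgroup.centralizer {e} with hS
  set W := fx U e with hW
  have hcov : D.index ≤ Φ.card * D.relIndex S := by
    refine index_le_classes hY hRD hRY e Φ fun y hy => ?_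
    have hx : Modz r R z (y * e * y⁻¹) := by
      refine ⟨hYR y hy e he.1, by rw [conj_pow, he.2.1, mul_one, mul_inv_cancel],
        fun hh => he.2.2.1 ?_, fun a ha => ?_⟩
      · have := hzY y⁻¹ (inv_mem hy) _ hh
        simpa [mul_assoc] using this
      · have h1 := hzY y hy _ (he.2.2.2 _ (hYR y⁻¹ (inv_mem hy) a ha))
        simpa [mul_assoc, mul_inv_rev] using h1
    set x := y * e * y⁻¹
    set f := Quotient.out (QuotientGroup.mk (s := N) x) with hf
    have hfΦ : f ∈ Φ := Finset.mem_image_of_mem _ (Finset.mem_image_of_mem _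
      (Finset.mem_filter.2 ⟨Finset.mem_univ _, hx⟩))
    refine ⟨f, hfΦ, ?_⟩
    have hfx : f⁻¹ * x ∈ N := QuotientGroup.eq.1 (QuotientGroup.out_eq' _)
    obtain ⟨g', hg', hge'⟩ := exists_conj_eq hzr hzc hZ (hΦE f hfΦ)
    obtain ⟨i, hi⟩ := (mem_powers_iff_mem_zpowers (x := z) (y := f⁻¹ * x)).2 hfx
    refine ⟨g' ^ i, pow_mem hg' i, ?_⟩
    rw [conj_pow_eq hge' (hzc g' hg') i, show z ^ i = f⁻¹ * x from hi, mul_inv_cancel_left]
  have hpow := card_fx_pow_le hzr hz1 hz (hzc e he.1) hge (hzc g hg)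
  obtain ⟨w, hw, hw1⟩ : ∃ w ∈ W, w ≠ 1 := by
    by_contra hh
    push Not at hh
    have hU : ∀ u : U, u = 1 := by
      intro u
      have hle : ⨆ i : Fin r, fx U (e * z ^ (i : ℕ)) ≤ ⊥ := by
        refine iSup_le fun i => le_of_eq ?_
        rw [← Subgroup.card_eq_one, card_fx_conj (conj_pow_eq hge (hzc g hg) (i : ℕ)),
          Subgroup.card_eq_one]
        exact (Subgroup.eq_bot_iff_forall _).2 hh
      exact hle (mem_iSup_fx hzr he.2.1 hz1 hz (hzc e he.1) h.exp hpr u)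
    obtain ⟨-, -, -, u, hu, -⟩ := h.fixed
    exact hu (hU u)
  have hWinv : ∀ a ∈ S, ∀ x ∈ W, a • x ∈ W := fun a ha x hx =>
    smul_mem_fx_self (Subgroup.mem_centralizer_singleton_iff.1 ha.2) hx
  have hst : ∀ a ∈ S, a • w = w → a ∈ D := fun a _ ha =>
    by_contra fun haD => hw1 (h.fpf a haD w ha)
  have h1 := relIndex_mul_relIndex_le (D := D) hWinv hw hw1 hst
  have hk1 : D.relIndex S + 1 ≤ Nat.card W := by
    have : 1 ≤ (stabilizer G w).relIndex (S ⊓ D) :=
      Nat.one_le_iff_ne_zero.2 Subgroup.index_ne_zero_of_finite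
    have := Nat.mul_le_mul_left (D.relIndex S) this
    omega
  by_cases hcase : r = 2 → ∃ c ∈ R ⊓ Subgroup.centralizer {e}, ∃ a ∈ W, a ≠ 1 ∧ c • a = a ∧
      ∃ b ∈ W, c • b ≠ b
  · refine Or.inr ⟨r, Nat.card W, Φ.card, D.relIndex S, hr.out, hpow, hcov, hk1, hs, fun hr2 => ?_⟩
    obtain ⟨c, hc, a, ha, ha1, hca, b, hb, hcb⟩ := hcase hr2
    set ρ := resHom S W hWinv with hρ
    set f := ρ.rangeRestrict with hf
    have hfs : Function.Surjective f := ρ.rangeRestrict_surjective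
    refine ⟨W, ρ.range, (D.subgroupOf S).map f, Subgroup.Normal.map inferInstance f hfs, ?_, ?_, rfl⟩
    · refine ⟨fun x => Subtype.ext (h.exp x), fun a' ha' => Subtype.ext (MulEquiv.ext ha'), ?_, ?_, ?_⟩
      · refine fun hdv => h.cop (hdv.trans ((Subgroup.card_map_dvd _ f).trans ?_))
        rw [← Subgroup.card_map_of_injective (f := S.subtype) (Subgroup.subtype_injective _)]
        exact Subgroup.card_dvd_of_le (Subgroup.map_le_iff_le_comap.2 le_rfl)
      · intro g' hg' x hx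
        obtain ⟨s, rfl⟩ := hfs g'
        have hsD : (s : G) ∉ D := fun hsD => hg' (Subgroup.mem_map_of_mem f hsD)
        exact Subtype.ext (h.fpf s hsD x (congrArg Subtype.val hx))
      · have hcS : c ∈ S := ⟨hRY hc.1, hc.2⟩
        refine ⟨f ⟨c, hcS⟩, Subgroup.mem_map_of_mem f (show (⟨c, hcS⟩ : S) ∈ D.subgroupOf S from hRD hc.1),
          fun e1 => hcb ?_, ⟨a, ha⟩, fun e1 => ha1 (congrArg Subtype.val e1), Subtype.ext hca⟩
        exact congrArg Subtype.val (DFunLike.congr_fun (congrArg Subtype.val e1) (⟨b, hb⟩ : W))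
    · rw [Subgroup.index_map_eq _ hfs]
      · rfl
      · intro s hs'
        by_contra hsD
        rw [MonoidHom.mem_ker] at hs'
        exact hw1 (h.fpf s hsD w
          (congrArg Subtype.val (DFunLike.congr_fun (congrArg Subtype.val hs') (⟨w, hw⟩ : W))))
  · push Not at hcase
    obtain ⟨rfl, hsemi⟩ := hcase
    left
    haveI : Fact (Nat.Prime 2) := ⟨Nat.prime_two⟩
    have h2 := classes_le_orbit h hpr hzr hz1 hz hzR hzc he hg hge hsemi hw hw1 E
      (fun x hx => (Finset.mem_filter.1 hx).2)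
    set I := (stabilizer G w).relIndex (R ⊓ Subgroup.centralizer {e})
    have hI : I ≤ (stabilizer G w).relIndex (S ⊓ D) :=
      Subgroup.relIndex_le_of_le_right (fun a ha => ⟨⟨hRY ha.1, ha.2⟩, hRD ha.1⟩)
        Subgroup.index_ne_zero_of_finite
    have h3 : D.index ≤ I * D.relIndex S := hcov.trans (Nat.mul_le_mul_right _ (by omega))
    have h4 := Nat.mul_le_mul_left (D.relIndex S) hI
    have h5 : D.index + 1 ≤ Nat.card W := by rw [mul_comm I] at h3; omega
    exact (Nat.pow_le_pow_left h5 2).trans hpow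

end CfsgLib.DerangedIndex
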