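import Cfsg.Agent.DerangedIndex.AffineBasic

/-!
# Commutation with a fixed-point-free central element: at most `v ^ 2` classes

Elements `f` of `G` with `g f g⁻¹ ∈ ⟨z⟩ f` for `g ∈ R`, separated by these multipliers, are linearly
independent over the endomorphisms of `U` commuting with `R`; so there are at most `v ^ 2` of them
when `|U| = p ^ v`.
-/

set_option autoImplicit false
set_option linter.unusedSectionVars false
set_option linter.style.haveILetI false

namespace CfsgLib.DerangedIndex

variable (G U : Type*) [Group G] [CommGroup U] [MulDistribMulAction G U]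

/-- The endomorphism attached to an element. -/
def toEnd : G →* AddMonoid.End (Additive U) where
  toFun g :=
    { toFun := fun u => Additive.ofMul (g • Additive.toMul u)
      map_zero' := congrArg Additive.ofMul (smul_one g)
      map_add' := fun a b => congrArg Additive.ofMul (smul_mul' g (Additive.toMul a) (Additive.toMul b)) }
  map_one' := AddMonoidHom.ext fun u => congrArg Additive.ofMul (one_smul G (Additive.toMul u))
  map_mul' a b := AddMonoidHom.ext fun u => congrArg Additive.ofMul (mul_smul a b (Additive.toMul u))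

variable {G U}

theorem toEnd_apply (g : G) (u : U) :
    toEnd G U g (Additive.ofMul u) = Additive.ofMul (g • u) := rfl

/-- The number of endomorphisms. -/
theorem card_end {A : Type*} [AddCommGroup A] [Finite A] {p v : ℕ} [Fact p.Prime]
    (h : ∀ a : A, p • a = 0) (hv : Nat.card A = p ^ v) :
    Nat.card (AddMonoid.End A) = p ^ (v * v) := by
  letI := AddCommGroup.zmodModule (n := p) (G := A) h
  haveI := Module.Finite.of_finite (R := ZMod p) (M := A)
  have hd : Module.finrank (ZMod p) A = v := by
    have : Nat.card A = Nat.card (ZMod p) ^ Module.finrank (ZMod p) A := Module.natCard_eq_pow_finrank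
    rw [hv, Nat.card_zmod] at this
    exact (Nat.pow_right_injective (Fact.out : p.Prime).two_le this).symm
  have e : Nat.card (AddMonoid.End A) = Nat.card (A →ₗ[ZMod p] A) := by
    refine Nat.card_congr
      { toFun := fun f => AddMonoidHom.toZModLinearMap p f
        invFun := fun f => f.toAddMonoidHom
        left_inv := fun f => AddMonoidHom.ext fun _ => rfl
        right_inv := fun f => LinearMap.ext fun _ => rfl }
  rw [e, Module.natCard_eq_pow_finrank (K := ZMod p) (V := A →ₗ[ZMod p] A), Nat.card_zmod,
    show Module.finrank (ZMod p) (A →ₗ[ZMod p] A) = v * v from (Module.finrank_linearMap (ZMod p) (ZMod p) A A).trans (by rw [hd])]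

variable [Finite U]

/-- At most `v ^ 2` separated elements. -/
theorem card_le_sq {p v : ℕ} [hp : Fact p.Prime] (hexp : ∀ u : U, u ^ p = 1) (hv : Nat.card U = p ^ v)
    (hv1 : 1 ≤ v) {R : Subgroup G} {z : G} {r : ℕ} [Fact r.Prime] (hzr : z ^ r = 1)
    (hz : ∀ u : U, z • u = u → u = 1) (hzc : ∀ g ∈ R, g * z = z * g) (Φ : Finset G)
    (hcl : ∀ f ∈ Φ, ∀ g ∈ R, ∃ c ∈ Subgroup.zpowers z, g * f * g⁻¹ = c * f)
    (hsep : ∀ f ∈ Φ, ∀ f' ∈ Φ, f ≠ f' → ∃ g ∈ R, ∀ c ∈ Subgroup.zpowers z, g * f * g⁻¹ = c * f →
      g * f' * g⁻¹ ≠ c * f') :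
    Φ.card ≤ v * v := by
  classical
  choose! c hcz hc using hcl
  set ρ := toEnd G U with hρ
  have hpow : ∀ g ∈ R, ∀ x ∈ Subgroup.zpowers z, Commute (ρ g) (ρ x) := by
    intro g hg x hx
    obtain ⟨i, rfl⟩ := Subgroup.mem_zpowers_iff.1 hx
    exact ((show Commute g z from hzc g hg).zpow_right i).map ρ
  have key : ∀ s : Finset G, s ⊆ Φ → ∀ a : G → AddMonoid.End (Additive U),
      (∀ f ∈ s, (∀ g ∈ R, Commute (ρ g) (a f)) ∧ Commute (ρ z) (a f)) →
      ∑ f ∈ s, a f * ρ f = 0 → ∀ f ∈ s, a f = 0 := by
    intro s
    induction s using Finset.induction with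
    | empty => simp
    | insert j t hj ih =>
      intro hsub a ha hsum
      have hjΦ : j ∈ Φ := hsub (Finset.mem_insert_self j t)
      have htΦ : t ⊆ Φ := (Finset.subset_insert j t).trans hsub
      have hzero : ∀ i ∈ t, a i = 0 := by
        intro i hi
        obtain ⟨g, hg, hne⟩ := hsep j hjΦ i (htΦ hi) fun e => hj (e ▸ hi)
        have hcom : ∀ f ∈ insert j t, ∀ x ∈ Subgroup.zpowers z, Commute (ρ x) (a f) := by
          intro f hf x hx
          obtain ⟨l, rfl⟩ := Subgroup.mem_zpowers_iff.1 hx
          have : (a f) * ρ z = ρ z * a f := (ha f hf).2.eq.symm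
          have h1 : ∀ m : ℕ, Commute (ρ (z ^ m)) (a f) := fun m => by
            rw [map_pow]; exact (ha f hf).2.pow_left m
          have hor : IsOfFinOrder z := isOfFinOrder_iff_pow_eq_one.2
            ⟨r, (Fact.out : r.Prime).pos, hzr⟩
          obtain ⟨m, hm⟩ := (hor.mem_powers_iff_mem_zpowers).2
            (zpow_mem (Subgroup.mem_zpowers z) l)
          rw [← show z ^ m = z ^ l from hm]
          exact h1 m
        have h1 : ∑ f ∈ insert j t, a f * (ρ (c f g) * ρ f) = 0 := by
          have e : ∀ f ∈ insert j t, a f * (ρ (c f g) * ρ f) = ρ g * (a f * ρ f) * ρ g⁻¹ := by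
            intro f hf
            rw [← map_mul, ← hc f (hsub hf) g hg, map_mul, map_mul, ← mul_assoc (ρ g),
              ← mul_assoc (a f), ← mul_assoc (a f), ((ha f hf).1 g hg).eq]
          rw [Finset.sum_congr rfl e, ← Finset.sum_mul, ← Finset.mul_sum, hsum, mul_zero, zero_mul]
        have h2 : ∑ f ∈ insert j t, a f * (ρ (c j g) * ρ f) = 0 := by
          have e : ∀ f ∈ insert j t, a f * (ρ (c j g) * ρ f) = ρ (c j g) * (a f * ρ f) := by
            intro f hf
            rw [← mul_assoc, ← mul_assoc, (hcom f hf _ (hcz j hjΦ g hg)).eq]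
          rw [Finset.sum_congr rfl e, ← Finset.mul_sum, hsum, mul_zero]
        set b : G → AddMonoid.End (Additive U) := fun f => a f * (ρ (c f g) - ρ (c j g)) with hb
        have h3 : ∑ f ∈ t, b f * ρ f = 0 := by
          have h4 : ∑ f ∈ insert j t, b f * ρ f = 0 := by
            rw [Finset.sum_congr rfl (g := fun f => a f * (ρ (c f g) * ρ f) - a f * (ρ (c j g) * ρ f))
              fun f _ => by simp only [hb]; rw [mul_assoc, sub_mul, mul_sub],
              Finset.sum_sub_distrib, h1, h2, sub_zero]
          rwa [Finset.sum_insert hj, show b j = 0 by simp [hb], zero_mul, zero_add] at h4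
        have hb0 := ih htΦ b (fun f hf => ?_) h3 i hi
        · -- cancel the multiplier
          have hd : c j g ≠ c i g := fun e => hne (c j g) (hcz j hjΦ g hg) (hc j hjΦ g hg)
            (e ▸ hc i (htΦ hi) g hg)
          set d : AddMonoid.End (Additive U) := ρ (c i g) - ρ (c j g) with hd'
          have hinj : Function.Injective d := by
            refine (injective_iff_map_eq_zero d).2 fun u hu => ?_
            change ρ (c i g) u - ρ (c j g) u = 0 at hu
            rw [sub_eq_zero] at hu
            have e : (c i g) • Additive.toMul u = (c j g) • Additive.toMul u :=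
              congrArg Additive.toMul hu
            have e2 : ((c j g)⁻¹ * c i g) • Additive.toMul u = Additive.toMul u := by
              rw [mul_smul, e, inv_smul_smul]
            have := eq_one_of_fixed_zpowers hzr hz
              (mul_mem (inv_mem (hcz j hjΦ g hg)) (hcz i (htΦ hi) g hg))
              (fun e3 => hd (inv_mul_eq_one.1 e3)) e2
            exact congrArg Additive.ofMul this
          refine AddMonoidHom.ext fun u => ?_
          obtain ⟨w, rfl⟩ := Finite.surjective_of_injective hinj u
          exact DFunLike.congr_fun hb0 w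
        · refine ⟨fun x hx => ?_, ?_⟩
          · exact ((ha f (Finset.mem_insert_of_mem hf)).1 x hx).mul_right
              ((hpow x hx _ (hcz f (htΦ hf) g hg)).sub_right (hpow x hx _ (hcz j hjΦ g hg)))
          · have hzz : ∀ x ∈ Subgroup.zpowers z, Commute (ρ z) (ρ x) := fun x hx => by
              obtain ⟨l, rfl⟩ := Subgroup.mem_zpowers_iff.1 hx
              exact ((Commute.refl z).zpow_right l).map ρ
            exact (ha f (Finset.mem_insert_of_mem hf)).2.mul_right
              ((hzz _ (hcz f (htΦ hf) g hg)).sub_right (hzz _ (hcz j hjΦ g hg)))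
      intro f hf
      rcases Finset.mem_insert.1 hf with rfl | hf
      · rw [Finset.sum_insert hj, Finset.sum_eq_zero (fun i hi => by rw [hzero i hi, zero_mul]),
          add_zero] at hsum
        have e : a f * ρ f * ρ f⁻¹ = 0 := by rw [hsum, zero_mul]
        rwa [mul_assoc, ← map_mul, mul_inv_cancel, map_one, mul_one] at e
      · exact hzero f hf
  -- count
  obtain ⟨u, hu⟩ : ∃ u : U, u ≠ 1 := by
    haveI : Nontrivial U := Finite.one_lt_card_iff_nontrivial.1
      (by rw [hv]; exact Nat.one_lt_pow (by omega) hp.out.one_lt)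
    exact exists_ne 1
  let M : (Φ → Fin p) → AddMonoid.End (Additive U) := fun x =>
    ∑ f : Φ, ((x f : ℕ) : AddMonoid.End (Additive U)) * ρ f
  have hM : Function.Injective M := by
    intro x y e
    funext f
    let a : G → AddMonoid.End (Additive U) := fun g =>
      if hg : g ∈ Φ then ((x ⟨g, hg⟩ : ℕ) : AddMonoid.End (Additive U)) - ((y ⟨g, hg⟩ : ℕ) : AddMonoid.End (Additive U))
      else 0
    have h := key Φ (Finset.Subset.refl _) a (fun g hg => ?_) ?_ f f.2
    · simp only [a, dif_pos f.2] at h
      rw [sub_eq_zero] at h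
      have h' := DFunLike.congr_fun h (Additive.ofMul u)
      rw [AddMonoid.End.natCast_apply, AddMonoid.End.natCast_apply, ← ofMul_pow, ← ofMul_pow,
        Additive.ofMul.injective.eq_iff, pow_inj_mod,
        orderOf_eq_prime (hexp u) hu, Nat.mod_eq_of_lt (x f).2, Nat.mod_eq_of_lt (y f).2] at h'
      exact Fin.ext h'
    · simp only [a, dif_pos hg]
      exact ⟨fun _ _ => (Nat.commute_cast _ _).sub_right (Nat.commute_cast _ _),
        (Nat.commute_cast _ _).sub_right (Nat.commute_cast _ _)⟩
    · rw [← Finset.sum_coe_sort Φ (fun g => a g * ρ g)]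
      simp only [M] at e
      rw [← sub_eq_zero.2 e, ← Finset.sum_sub_distrib]
      refine Finset.sum_congr rfl fun g _ => ?_
      simp only [a, dif_pos g.2]
      exact sub_mul _ _ _
  have hexp' : ∀ a : Additive U, p • a = 0 := fun a => congrArg Additive.ofMul (hexp (Additive.toMul a))
  have hv' : Nat.card (Additive U) = p ^ v := (Nat.card_congr Additive.toMul).trans hv
  haveI : Finite (AddMonoid.End (Additive U)) :=
    Finite.of_injective (fun f => (f : Additive U → Additive U)) DFunLike.coe_injective
  have h1 := Nat.card_le_card_of_injective M hM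
  rw [card_end hexp' hv', Nat.card_fun, Nat.card_eq_fintype_card, Fintype.card_fin,
    Nat.card_eq_fintype_card, Fintype.card_coe] at h1
  exact (Nat.pow_le_pow_iff_right hp.out.one_lt).1 h1

end CfsgLib.DerangedIndex
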