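import Mathlib

/-!
# A transitive normal subgroup outside which every element fixes exactly one point

`D` is a normal subgroup of `G`, transitive on `Ω`, and every element outside `D` fixes exactly one
point.  For a subgroup `X` mapping onto `G ⧸ D` some point stabiliser in `X` still maps onto
`G ⧸ D`, and the index of `D` divides the size of every invariant set of such a stabiliser omitting
the point.
-/

set_option autoImplicit false
set_option linter.unusedSectionVars false
set_option linter.style.haveILetI false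

open MulAction

namespace CfsgLib.DerangedIndex

/-- `X` meets every coset of `D`. -/
def Onto {G : Type*} [Group G] (X D : Subgroup G) : Prop := ∀ g : G, ∃ x ∈ X, x⁻¹ * g ∈ D

/-- `D` is transitive and every element outside it fixes exactly one point. -/
structure Hyp {G : Type*} [Group G] (Ω : Type*) [MulAction G Ω] (D : Subgroup G) : Prop where
  trans : ∀ a b : Ω, ∃ d ∈ D, d • a = b
  fix : ∀ g : G, g ∉ D → ∃ a : Ω, g • a = a
  uniq : ∀ g : G, g ∉ D → ∀ a b : Ω, g • a = a → g • b = b → a = b

variable {G : Type*} [Group G] {Ω : Type*} [MulAction G Ω] {D : Subgroup G}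

theorem Onto.top : Onto (⊤ : Subgroup G) D := fun g => ⟨g, trivial, by simp⟩

theorem Onto.mono {X Y : Subgroup G} (h : Onto X D) (hXY : X ≤ Y) : Onto Y D := fun g =>
  (h g).imp fun _ hx => ⟨hXY hx.1, hx.2⟩

theorem onto_iff_surjective [D.Normal] (X : Subgroup G) :
    Onto X D ↔ Function.Surjective ((QuotientGroup.mk' D).comp X.subtype) := by
  constructor
  · intro h q
    obtain ⟨g, rfl⟩ := QuotientGroup.mk'_surjective D q
    obtain ⟨x, hx, hd⟩ := h g
    exact ⟨⟨x, hx⟩, QuotientGroup.eq.2 hd⟩
  · intro h g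
    obtain ⟨⟨x, hx⟩, e⟩ := h (QuotientGroup.mk' D g)
    exact ⟨x, hx, QuotientGroup.eq.1 e⟩

theorem ker_eq_subgroupOf [D.Normal] (X : Subgroup G) :
    ((QuotientGroup.mk' D).comp X.subtype).ker = D.subgroupOf X := by
  ext x
  simp [MonoidHom.mem_ker, Subgroup.mem_subgroupOf, QuotientGroup.eq_one_iff]

theorem Onto.relIndex_eq [D.Normal] {X : Subgroup G} (h : Onto X D) : D.relIndex X = D.index := by
  have h1 := MonoidHom.range_eq_top.2 ((onto_iff_surjective X).1 h)
  have h2 := Subgroup.index_ker ((QuotientGroup.mk' D).comp X.subtype)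
  rw [ker_eq_subgroupOf, h1, Subgroup.card_top] at h2
  exact h2

theorem onto_of_relIndex [Finite G] [D.Normal] {X : Subgroup G} (h : D.relIndex X = D.index) :
    Onto X D := by
  rw [onto_iff_surjective, ← MonoidHom.range_eq_top, ← Subgroup.card_eq_iff_eq_top,
    ← Subgroup.index_ker, ker_eq_subgroupOf]
  exact h

variable (h : Hyp Ω D)
include h

theorem Hyp.mem_of_two {g : G} {a b : Ω} (ha : g • a = a) (hb : g • b = b) (hab : a ≠ b) : g ∈ D :=
  by_contra fun hg => hab (h.uniq g hg a b ha hb)

theorem Hyp.onto_stab (a : Ω) : Onto (stabilizer G a) D := by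
  intro g
  obtain ⟨d, hd, hda⟩ := h.trans (g⁻¹ • a) a
  refine ⟨g * d⁻¹, ?_, by simpa [mul_assoc] using hd⟩
  rw [mem_stabilizer_iff, mul_smul, inv_smul_eq_iff.2 hda.symm, smul_inv_smul]

variable [Finite G]

/-- An element of `X` outside `D` fixing an orbit of `X ⊓ D` fixes a point of it. -/
theorem Hyp.fix_in_orbit [hD : D.Normal] {X : Subgroup G} {x : G} (hx : x ∈ X) (hxD : x ∉ D) {ω : Ω}
    (hω : ∃ d ∈ X ⊓ D, x • ω = d • ω) : ∃ n ∈ X ⊓ D, x • (n • ω) = n • ω := by
  obtain ⟨d, hd, hdω⟩ := hω
  set N : Subgroup G := X ⊓ D with hN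
  set y : G := d⁻¹ * x with hy
  have hyX : y ∈ X := mul_mem (inv_mem hd.1) hx
  have hyD : y ∉ D := fun hh => hxD (by simpa [hy] using mul_mem hd.2 hh)
  have hyω : y • ω = ω := by rw [hy, mul_smul, hdω, inv_smul_smul]
  set S : Subgroup N := stabilizer N ω with hS
  have hmem : ∀ (n s : N), (n : G) * s * y * (n : G)⁻¹ * y⁻¹ ∈ N := by
    intro n s
    have h1 : y * (n : G)⁻¹ * y⁻¹ ∈ N := Subgroup.mem_inf.2 ⟨mul_mem (mul_mem hyX (inv_mem (Subgroup.mem_inf.1 n.2).1)) (inv_mem hyX),
      hD.conj_mem _ (inv_mem (Subgroup.mem_inf.1 n.2).2) y⟩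
    simpa [mul_assoc] using mul_mem (mul_mem n.2 s.2) h1
  let Φ : (N ⧸ S) × S → N := fun z =>
    ⟨(z.1.out : G) * (z.2 : N) * y * (z.1.out : G)⁻¹ * y⁻¹, hmem z.1.out z.2⟩
  have hwD : ∀ (n : N) (s : S), (n : G) * (s : N) * y * (n : G)⁻¹ ∉ D := by
    intro n s hh
    apply hyD
    have hh' : (s : N) * y ∈ D := by
      have := hD.conj_mem _ hh (n : G)⁻¹
      simpa [mul_assoc] using this
    simpa using mul_mem (inv_mem (Subgroup.mem_inf.1 s.1.2).2) hh'
  have hwfix : ∀ (n : N) (s : S), ((n : G) * (s : N) * y * (n : G)⁻¹) • ((n : G) • ω) = (n : G) • ω := by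
    intro n s
    have hs : ((s : N) : G) • ω = ω := s.2
    rw [mul_smul, inv_smul_smul, mul_smul, hyω, mul_smul, hs]
  have hinj : Function.Injective Φ := by
    rintro ⟨q, s⟩ ⟨q', s'⟩ e
    have e1 : (q.out : G) * (s : N) * y * (q.out : G)⁻¹ =
        (q'.out : G) * (s' : N) * y * (q'.out : G)⁻¹ :=
      mul_right_cancel (congrArg Subtype.val e)
    have e2 := h.uniq _ (hwD q.out s) ((q.out : G) • ω) ((q'.out : G) • ω) (hwfix _ _)
      (e1 ▸ hwfix _ _)
    have e3 : q = q' := by
      rw [← QuotientGroup.out_eq' q, ← QuotientGroup.out_eq' q']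
      refine QuotientGroup.eq.2 ?_
      show ((q.out⁻¹ * q'.out : N) : G) • ω = ω
      rw [Subgroup.coe_mul, Subgroup.coe_inv, mul_smul, ← e2, inv_smul_smul]
    subst e3
    simp only [mul_left_inj, mul_right_inj] at e1
    exact Prod.ext rfl (Subtype.ext (Subtype.ext e1))
  have hbij : Function.Bijective Φ := by
    rw [Nat.bijective_iff_injective_and_card]
    exact ⟨hinj, by rw [Nat.card_prod, ← Subgroup.card_eq_card_quotient_mul_card_subgroup]⟩
  obtain ⟨⟨q, s⟩, hqs⟩ := hbij.2 ⟨d, hd⟩
  refine ⟨q.out, q.out.2, ?_⟩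
  have e : (q.out : G) * (s : N) * y * (q.out : G)⁻¹ = x := by
    have := congrArg Subtype.val hqs
    simp only [Φ] at this
    rw [mul_inv_eq_iff_eq_mul] at this
    rw [this, hy, mul_inv_cancel_left]
  rw [← e]
  exact hwfix q.out s

/-- A subgroup mapping onto `G ⧸ D` has a point stabiliser still mapping onto it. -/
theorem Hyp.exists_onto [D.Normal] {X : Subgroup G} (hX : Onto X D) [Nonempty Ω] :
    ∃ a : Ω, Onto (X ⊓ stabilizer G a) D := by
  classical
  by_cases hXD : X ≤ D
  · obtain ⟨a⟩ := ‹Nonempty Ω›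
    refine ⟨a, fun g => ⟨1, one_mem _, ?_⟩⟩
    obtain ⟨x, hx, hd⟩ := hX g
    simpa using mul_mem (hXD hx) hd
  obtain ⟨x₀, hx₀, hx₀D⟩ := SetLike.not_le_iff_exists.1 hXD
  haveI := Fintype.ofFinite X
  -- the contribution of an orbit
  let P : Ω → Finset X := fun b =>
    Finset.univ.filter fun x : X => (x : G) ∉ D ∧ ∃ c ∈ orbit X b, (x : G) • c = c
  let W : Ω → Subgroup X := fun b => stabilizer X b
  let E : Subgroup X := D.subgroupOf X
  have hcount : ∀ b : Ω, (P b).card + Nat.card (orbit X b) * Nat.card ↥(W b ⊓ E) = Nat.card X := by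
    intro b
    have hconj : ∀ c ∈ orbit X b, Nat.card ↥(W c ⊓ E) = Nat.card ↥(W b ⊓ E) := by
      rintro _ ⟨g, rfl⟩
      have e : W (g • b) ⊓ E = (W b ⊓ E).map (MulAut.conj g).toMonoidHom := by
        rw [Subgroup.map_inf _ _ _ (MulAut.conj g).injective]
        congr 1
        · exact stabilizer_smul_eq_stabilizer_map_conj g b
        · exact (Subgroup.Normal.map_conj_eq E g).symm
      rw [e]
      exact (Nat.card_congr (Subgroup.equivMapOfInjective _ _ (MulAut.conj g).injective).toEquiv).symm
    have hW : ∀ c ∈ orbit X b, Nat.card (W c) * Nat.card (orbit X b) = Nat.card X := by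
      intro c hc
      have e := Subgroup.card_mul_index (stabilizer X c)
      rw [MulAction.index_stabilizer, orbit_eq_iff.2 hc, ← Nat.card_coe_set_eq] at e
      exact e
    haveI : Finite (orbit X b) := Set.Finite.to_subtype (Set.finite_range _)
    haveI := Fintype.ofFinite (orbit X b)
    have hsig : (P b).card = ∑ c : orbit X b,
        (Finset.univ.filter fun x : X => (x : G) ∉ D ∧ (x : G) • (c : Ω) = c).card := by
      rw [← Finset.card_biUnion]
      · congr 1
        ext x
        simp only [P, Finset.mem_filter, Finset.mem_univ, true_and, Finset.mem_biUnion,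
          Subtype.exists]
        constructor
        · rintro ⟨h1, c, hc, h2⟩
          exact ⟨c, hc, h1, h2⟩
        · rintro ⟨c, hc, h1, h2⟩
          exact ⟨h1, c, hc, h2⟩
      · intro c _ c' _ hne
        simp only [Function.onFun]
        rw [Finset.disjoint_left]
        intro x hx hx'
        simp only [Finset.mem_filter, Finset.mem_univ, true_and] at hx hx'
        exact hne (Subtype.ext (h.uniq _ hx.1 _ _ hx.2 hx'.2))
    have hfib : ∀ c : orbit X b,
        (Finset.univ.filter fun x : X => (x : G) ∉ D ∧ (x : G) • (c : Ω) = c).card +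
          Nat.card ↥(W b ⊓ E) = Nat.card (W (c : Ω)) := by
      intro c
      rw [← hconj c c.2, Nat.card_eq_fintype_card, Nat.card_eq_fintype_card, Fintype.card_subtype,
        Fintype.card_subtype, ← Finset.card_union_of_disjoint]
      · congr 1
        ext x
        simp only [Finset.mem_union, Finset.mem_filter, Finset.mem_univ, true_and, W, E,
          Subgroup.mem_inf, mem_stabilizer_iff, Subgroup.mem_subgroupOf, Subgroup.smul_def]
        tauto
      · rw [Finset.disjoint_left]
        intro x hx hx'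
        simp only [Finset.mem_filter, Finset.mem_univ, true_and, E, Subgroup.mem_inf,
          Subgroup.mem_subgroupOf] at hx hx'
        exact hx.1 hx'.2
    rw [hsig, Nat.card_eq_fintype_card (α := orbit X b), ← smul_eq_mul (Fintype.card _),
      ← Finset.card_univ, ← Finset.sum_const, ← Finset.sum_add_distrib,
      Finset.sum_congr rfl fun c _ => hfib c]
    have : ∀ c : orbit X b, Nat.card (W (c : Ω)) = Nat.card (W b) := fun c =>
      Nat.eq_of_mul_eq_mul_right (haveI : Nonempty (orbit X b) := ⟨⟨b, mem_orbit_self b⟩⟩; Nat.card_pos) ((hW c c.2).trans (hW b (mem_orbit_self b)).symm)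
    rw [Finset.sum_congr rfl fun c _ => this c, Finset.sum_const, Finset.card_univ,
      ← Nat.card_eq_fintype_card, smul_eq_mul, mul_comm, hW b (mem_orbit_self b)]
  have hhalf : ∀ b : Ω, ∀ x : X, (x : G) ∉ D → (x : G) • b = b → Nat.card X ≤ 2 * (P b).card := by
    intro b x hxD hxb
    have h1 := hcount b
    have h2 : 2 * Nat.card ↥(W b ⊓ E) ≤ Nat.card (W b) := by
      have hlt : W b ⊓ E < W b := inf_le_left.lt_of_ne fun e =>
        hxD ((e.symm ▸ (hxb : x ∈ W b) : x ∈ W b ⊓ E).2)
      have e := Subgroup.card_mul_index ((W b ⊓ E).subgroupOf (W b))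
      rw [Nat.card_congr (Subgroup.subgroupOfEquivOfLe hlt.le).toEquiv] at e
      rw [← e, mul_comm 2]
      refine Nat.mul_le_mul_left _ (Nat.two_le_iff _ |>.2 ⟨Subgroup.index_ne_zero_of_finite, ?_⟩)
      rw [Ne, Subgroup.index_eq_one, Subgroup.subgroupOf_eq_top]
      exact hlt.not_ge
    have h3 : Nat.card (W b) * Nat.card (orbit X b) = Nat.card X := by
      rw [mul_comm, Nat.card_coe_set_eq, ← MulAction.index_stabilizer]
      exact Subgroup.index_mul_card _
    have h4 := Nat.mul_le_mul_left (Nat.card (orbit X b)) h2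
    rw [mul_comm (Nat.card (orbit X b)) (Nat.card (W b)), h3] at h4
    have h5 : Nat.card (orbit X b) * (2 * Nat.card ↥(W b ⊓ E)) =
        2 * (Nat.card (orbit X b) * Nat.card ↥(W b ⊓ E)) := by ring
    omega
  obtain ⟨a, ha⟩ := h.fix x₀ hx₀D
  refine ⟨a, onto_of_relIndex ?_⟩
  set O : Finset X := Finset.univ.filter fun x : X => (x : G) ∉ D
  have hO : O.card + Nat.card E = Nat.card X := by
    rw [Nat.card_eq_fintype_card, Fintype.card_subtype, Nat.card_eq_fintype_card, ← Finset.card_univ,
      add_comm]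
    simp only [O, E, Subgroup.mem_subgroupOf]
    exact Finset.card_filter_add_card_filter_not _
  have hall : P a = O := by
    refine Finset.Subset.antisymm (fun x hx => ?_) fun x hx => ?_
    · simp only [P, O, Finset.mem_filter, Finset.mem_univ, true_and] at hx ⊢
      exact hx.1
    · by_contra hxP
      simp only [O, Finset.mem_filter, Finset.mem_univ, true_and] at hx
      obtain ⟨b, hb⟩ := h.fix _ hx
      have hdis : Disjoint (P a) (P b) := by
        rw [Finset.disjoint_left]
        intro y hy hy'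
        simp only [P, Finset.mem_filter, Finset.mem_univ, true_and] at hy hy' hxP
        obtain ⟨-, c, hc, hyc⟩ := hy
        obtain ⟨hyD, c', hc', hyc'⟩ := hy'
        obtain rfl := h.uniq _ hyD _ _ hyc hyc'
        exact hxP ⟨hx, b, by rw [← orbit_eq_iff.2 hc, orbit_eq_iff.2 hc']; exact mem_orbit_self b, hb⟩
      have hsub : P a ∪ P b ⊆ O := by
        intro y hy
        simp only [P, O, Finset.mem_union, Finset.mem_filter, Finset.mem_univ, true_and] at hy ⊢
        exact hy.elim And.left And.left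
      have := Finset.card_le_card hsub
      rw [Finset.card_union_of_disjoint hdis] at this
      have h1 := hhalf a ⟨x₀, hx₀⟩ hx₀D ha
      have h2 := hhalf b x hx hb
      have h3 : 0 < Nat.card E := Nat.card_pos
      omega
  have h1 := hcount a
  rw [hall] at h1
  have h2 : Nat.card (orbit X a) * Nat.card ↥(W a ⊓ E) = Nat.card E := by omega
  have h3 : Nat.card (W a) * Nat.card (orbit X a) = Nat.card X := by
    rw [mul_comm, Nat.card_coe_set_eq, ← MulAction.index_stabilizer]
    exact Subgroup.index_mul_card _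
  have hk : D.index * Nat.card E = Nat.card X := by
    rw [← hX.relIndex_eq]
    exact Subgroup.index_mul_card _
  rw [← h2, ← h3] at hk
  have e := Subgroup.card_mul_index ((W a ⊓ E).subgroupOf (W a))
  rw [Nat.card_congr (Subgroup.subgroupOfEquivOfLe inf_le_left).toEquiv] at e
  change _ * (W a ⊓ E).relIndex (W a) = _ at e
  rw [Subgroup.inf_relIndex_left, show E = D.comap X.subtype from rfl, Subgroup.relIndex_comap] at e
  have hmap : (W a).map X.subtype = X ⊓ stabilizer G a := by
    ext g
    simp only [Subgroup.mem_map, Subgroup.mem_inf, W, mem_stabilizer_iff, Subgroup.coe_subtype,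
      Subtype.exists, Subgroup.smul_def, exists_and_right, exists_eq_right]
    exact ⟨fun ⟨h1, h2⟩ => ⟨h1, h2⟩, fun ⟨h1, h2⟩ => ⟨h1, h2⟩⟩
  rw [hmap] at e
  refine Nat.eq_of_mul_eq_mul_right (Nat.card_pos (α := ↥(W a ⊓ E))) ?_
  refine Nat.eq_of_mul_eq_mul_right (m := Nat.card (orbit X a)) ?_ ?_
  · haveI : Nonempty (orbit X a) := ⟨⟨a, mem_orbit_self a⟩⟩
    haveI : Finite (orbit X a) := Set.Finite.to_subtype (Set.finite_range _)
    exact Nat.card_pos
  rw [show E = D.comap X.subtype from rfl] at hk ⊢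
  rw [mul_comm (D.relIndex _), e, ← hk]
  ring

/-- The index of `D` divides the size of an invariant set omitting the fixed point. -/
theorem Hyp.dvd_ncard [D.Normal] [Finite Ω] {X : Subgroup G} (hX : Onto X D) {a : Ω}
    (hXa : X ≤ stabilizer G a) {S : Set Ω} (hS : ∀ x ∈ X, ∀ b ∈ S, x • b ∈ S) (ha : a ∉ S) :
    D.index ∣ S.ncard := by
  classical
  let Y : SubMulAction X Ω := { carrier := S, smul_mem' := fun x b hb => hS x x.2 b hb }
  rw [← Nat.card_coe_set_eq]
  change D.index ∣ Nat.card Y
  haveI := Fintype.ofFinite Y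
  haveI : Fintype (orbitRel.Quotient X Y) := Fintype.ofFinite _
  rw [Nat.card_congr (selfEquivSigmaOrbits' X Y), Nat.card_sigma]
  refine Finset.dvd_sum fun q _ => ?_
  induction q using Quotient.inductionOn' with | h b => ?_
  rw [orbitRel.Quotient.orbit_mk, Nat.card_coe_set_eq, ← index_stabilizer, ← hX.relIndex_eq]
  refine Subgroup.index_dvd_of_le fun x hx => ?_
  have hb : (x : G) • (b : Ω) = b := congrArg Subtype.val hx
  exact h.mem_of_two (hXa x.2) hb fun e => ha (e ▸ b.2)

/-- The index of `D` divides `n - 1`. -/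
theorem Hyp.dvd_card_sub_one [D.Normal] [Finite Ω] [Nonempty Ω] : D.index ∣ Nat.card Ω - 1 := by
  obtain ⟨a⟩ := ‹Nonempty Ω›
  have h1 := h.dvd_ncard (h.onto_stab a) le_rfl (S := {a}ᶜ) (fun x hx b hb e => hb ?_) (by simp)
  · rwa [Set.ncard_compl, Set.ncard_singleton] at h1
  · rw [Set.mem_singleton_iff] at e ⊢
    rw [← inv_smul_smul x b, e]
    exact mem_stabilizer_iff.1 (inv_mem hx)

end CfsgLib.DerangedIndex
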