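import Cfsg.Agent.TISmallDegree.Small
import Cfsg.Agent.Perm.PermChar

/-!
# A regular self-centralising Sylow subgroup of a group of rank at least three

`P` is a Sylow subgroup, regular in a transitive action, equal to the centraliser of each of its
non-identity elements, and contained in no proper normal subgroup; `t` is `|N(P) : P|`.  If
`2 ≤ t` and the action is not doubly transitive then `n - 1 ≤ t (t - 1)` for the degree `n`, with
equality only for `t ≤ 4`.

The proof compares, for the characters `f` of `P`, the multiplicities `mc ψ f` in the irreducible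
characters `ψ` of `G`: column orthogonality gives `∑ ψ, (mc ψ f - mc ψ h) ^ 2`.
-/

set_option autoImplicit false
set_option linter.style.haveILetI false
set_option linter.unusedSectionVars false

namespace CfsgLib.DerangedIndex

open CfsgLib.Characters
open CfsgLib.TISmallDegree
open CfsgLib.PrincipalBlock (trivChar trivChar_apply charKer mem_charKer)
open scoped ComplexConjugate

universe u v

variable {G : Type u} [Group G] [Fintype G] {p : ℕ} [Fact p.Prime] {P : Sylow p G}

/-- `P` is the centraliser of each of its non-identity elements. -/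
def SelfCent (P : Sylow p G) : Prop :=
  ∀ x ∈ (P : Subgroup G), x ≠ 1 → Subgroup.centralizer ({x} : Set G) = (P : Subgroup G)

theorem SelfCent.le_centralizer (h : SelfCent P) : (P : Subgroup G) ≤ CC P := by
  intro x hx
  rw [CC, Subgroup.mem_centralizer_iff]
  intro y hy
  rcases eq_or_ne y 1 with rfl | hy1
  · simp
  · exact (Subgroup.mem_centralizer_singleton_iff.1 ((h y hy hy1).symm ▸ hx :
      x ∈ Subgroup.centralizer ({y} : Set G))).symm

theorem SelfCent.CC_eq (h : SelfCent P) {x : G} (hx : x ∈ (P : Subgroup G)) (hx1 : x ≠ 1) :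
    CC P = (P : Subgroup G) := by
  refine le_antisymm (fun y hy => ?_) h.le_centralizer
  rw [← h x hx hx1]
  exact Subgroup.mem_centralizer_singleton_iff.2 (Subgroup.mem_centralizer_iff.1 hy x hx).symm

theorem SelfCent.isStar (h : SelfCent P) : IsStar P := fun x hx hx1 => by
  rw [h x hx hx1]
  exact (h.CC_eq hx hx1).symm

/-- Orthogonality of the characters of a finite abelian group. -/
theorem sum_hom_apply {A : Type u} [CommGroup A] [Finite A] [Fintype (A →* ℂˣ)] (x : A)
    [Decidable (x = 1)] :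
    ∑ f : A →* ℂˣ, (f x : ℂ) = if x = 1 then (Nat.card (A →* ℂˣ) : ℂ) else 0 := by
  split_ifs with h
  · subst h
    simp [Nat.card_eq_fintype_card]
  · haveI : NeZero (Monoid.exponent A : ℂ) :=
      ⟨Nat.cast_ne_zero.2 Monoid.exponent_ne_zero_of_finite⟩
    obtain ⟨g, hg⟩ := CommGroup.exists_apply_ne_one_of_hasEnoughRootsOfUnity A ℂ h
    have e : (g x : ℂ) * ∑ f : A →* ℂˣ, (f x : ℂ) = ∑ f : A →* ℂˣ, (f x : ℂ) := by
      rw [Finset.mul_sum]
      exact Fintype.sum_equiv (Equiv.mulLeft g) _ _ fun f => by simp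
    by_contra hne
    exact hg (Units.ext ((mul_eq_right₀ hne).1 e))

variable [Fintype (P : Subgroup G)] (hc : SelfCent P)

theorem exists_mc (ψ : Cfsg.IrrCharacter G) (f : DD P) :
    ∃ m : ℕ, Cfsg.classInner (fun x : (P : Subgroup G) => (ψ : G → ℂ) x)
      (fun x => (f x : ℂ)) = m :=
  classInner_character_irr (isCharacter_restrict (P : Subgroup G) (isCharacter_of_isIrr ψ.2))
    (isIrr_linChar f)

/-- The multiplicity of `f` in `ψ` restricted to `P`. -/
noncomputable def mc (ψ : Cfsg.IrrCharacter G) (f : DD P) : ℕ := (exists_mc ψ f).choose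

theorem mc_spec (ψ : Cfsg.IrrCharacter G) (f : DD P) :
    Cfsg.classInner (fun x : (P : Subgroup G) => (ψ : G → ℂ) x) (fun x => (f x : ℂ)) = mc ψ f :=
  (exists_mc ψ f).choose_spec

theorem mc_trivChar (f : DD P) [Decidable (f = 1)] :
    mc (trivChar G) f = if f = 1 then 1 else 0 := by
  classical
  apply Nat.cast_injective (R := ℂ)
  rw [← mc_spec]
  have h := CfsgLib.OddOrderChar.classInner_hom (1 : DD P) f
  simp only [MonoidHom.one_apply, Units.val_one] at h
  simp only [trivChar_apply]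
  rw [h]
  simp [eq_comm]

theorem mc_smul (ψ : Cfsg.IrrCharacter G) (g : NN P) (f : DD P) : mc ψ (g • f) = mc ψ f := by
  apply Nat.cast_injective (R := ℂ)
  rw [← mc_spec, ← mc_spec, Cfsg.classInner, Cfsg.classInner]
  congr 1
  refine Fintype.sum_bijective (cjP P g) ?_ _ _ fun x => ?_
  · refine Finite.injective_iff_bijective.1 fun a b e => Subtype.ext ?_
    have := congrArg Subtype.val e
    rw [coe_cjP, coe_cjP] at this
    exact mul_left_cancel (mul_right_cancel this)
  · rw [smul_DD]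
    congr 1
    rw [coe_cjP]
    simpa using (isClassFunction_of_isIrr ψ.2 (x : G) (g : G)⁻¹).symm

include hc in
theorem sum_DD [Fintype (DD P)] (x : (P : Subgroup G)) [Decidable (x = 1)] :
    ∑ f : DD P, (f x : ℂ) = if x = 1 then (Nat.card (P : Subgroup G) : ℂ) else 0 := by
  letI : CommGroup (P : Subgroup G) :=
    { (inferInstance : Group (P : Subgroup G)) with
      mul_comm := fun a b => Subtype.ext (comm_of_mem hc.isStar a.2 b.2) }
  rw [← card_DD hc.isStar]
  exact sum_hom_apply x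

include hc in
/-- The restriction to `P`. -/
theorem apply_eq_sum [Fintype (DD P)] (ψ : Cfsg.IrrCharacter G) (x : (P : Subgroup G)) :
    (ψ : G → ℂ) x = ∑ f : DD P, (mc ψ f : ℂ) * (f x : ℂ) := by
  classical
  simp only [← mc_spec, Cfsg.classInner, mul_assoc, Finset.sum_mul]
  rw [← Finset.mul_sum, Finset.sum_comm]
  have e : ∀ y : (P : Subgroup G),
      ∑ f : DD P, (ψ : G → ℂ) y * (conj (f y : ℂ) * (f x : ℂ)) =
        if y⁻¹ * x = 1 then (ψ : G → ℂ) y * (Nat.card (P : Subgroup G) : ℂ) else 0 := by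
    intro y
    rw [← Finset.mul_sum]
    have : ∀ f : DD P, conj (f y : ℂ) * (f x : ℂ) = (f (y⁻¹ * x) : ℂ) := fun f => by
      rw [CfsgLib.OddOrderChar.conj_hom_eq, map_mul, Units.val_mul, MonoidHom.inv_apply, map_inv]
    rw [Finset.sum_congr rfl fun f _ => this f, sum_DD hc]
    split_ifs <;> simp
  rw [Finset.sum_congr rfl fun y _ => e y, Finset.sum_eq_single x]
  · rw [if_pos (inv_mul_cancel x)]
    have : (Nat.card (P : Subgroup G) : ℂ) ≠ 0 := natCard_ne_zero
    field_simp
  · intro y _ hy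
    rw [if_neg fun h => hy (inv_mul_eq_one.1 h)]
  · exact fun h => absurd (Finset.mem_univ x) h

include hc in
/-- The degree. -/
theorem deg_eq_sum_mc [Fintype (DD P)] (ψ : Cfsg.IrrCharacter G) :
    deg ψ = ∑ f : DD P, mc ψ f := by
  apply Nat.cast_injective (R := ℂ)
  have h := apply_eq_sum hc ψ 1
  rw [OneMemClass.coe_one] at h
  rw [← deg_spec, h]
  push_cast
  exact Finset.sum_congr rfl fun f _ => by simp

include hc in
/-- The sum of the products of the multiplicities. -/
theorem sum_mc_mul (f h : DD P) :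
    (Nat.card (P : Subgroup G) : ℂ) ^ 2 * ∑ ψ : Cfsg.IrrCharacter G, (mc ψ f : ℂ) * mc ψ h =
      ((Nat.card G : ℂ) - Nat.card (NN P)) +
        Nat.card (P : Subgroup G) * (Nat.card {g : NN P // g • h = f} : ℂ) := by
  classical
  haveI := Fintype.ofFinite (NN P)
  set n : ℂ := (Nat.card (P : Subgroup G) : ℂ) with hn
  have hn0 : n ≠ 0 := natCard_ne_zero
  -- the multiplicities as sums
  have hf : ∀ ψ : Cfsg.IrrCharacter G, n * mc ψ f =
      ∑ x : (P : Subgroup G), (ψ : G → ℂ) x * conj (f x : ℂ) := fun ψ => by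
    rw [← mc_spec, Cfsg.classInner, ← mul_assoc, mul_inv_cancel₀ hn0, one_mul]
  have hh : ∀ ψ : Cfsg.IrrCharacter G, n * mc ψ h =
      ∑ y : (P : Subgroup G), conj ((ψ : G → ℂ) y) * (h y : ℂ) := fun ψ => by
    have e := congrArg conj ((mc_spec ψ h).symm)
    rw [Complex.conj_natCast, Cfsg.classInner, map_mul, map_inv₀, Complex.conj_natCast, map_sum]
      at e
    rw [e, ← mul_assoc, mul_inv_cancel₀ hn0, one_mul]
    refine Finset.sum_congr rfl fun y _ => ?_
    rw [map_mul, Complex.conj_conj]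
  let F : G → ↥(P : Subgroup G) → ℂ := fun g x =>
    if hg : g * x * g⁻¹ ∈ (P : Subgroup G) then conj (f x : ℂ) * (h ⟨_, hg⟩ : ℂ) else 0
  have h1 : n ^ 2 * ∑ ψ : Cfsg.IrrCharacter G, (mc ψ f : ℂ) * mc ψ h =
      ∑ g : G, ∑ x : (P : Subgroup G), F g x := by
    calc n ^ 2 * ∑ ψ : Cfsg.IrrCharacter G, (mc ψ f : ℂ) * mc ψ h
        = ∑ ψ : Cfsg.IrrCharacter G, (n * mc ψ f) * (n * mc ψ h) := by
          rw [Finset.mul_sum]
          exact Finset.sum_congr rfl fun ψ _ => by ring
      _ = ∑ x : (P : Subgroup G), ∑ y : (P : Subgroup G), conj (f x : ℂ) * (h y : ℂ) *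
            ∑ ψ : Cfsg.IrrCharacter G, (ψ : G → ℂ) x * conj ((ψ : G → ℂ) y) := by
          simp only [hf, hh, Finset.sum_mul_sum]
          rw [Finset.sum_comm]
          refine Finset.sum_congr rfl fun x _ => ?_
          rw [Finset.sum_comm]
          refine Finset.sum_congr rfl fun y _ => ?_
          rw [Finset.mul_sum]
          exact Finset.sum_congr rfl fun ψ _ => by ring
      _ = ∑ x : (P : Subgroup G), ∑ g : G, F g x := by
          refine Finset.sum_congr rfl fun x _ => ?_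
          have e : ∀ y : (P : Subgroup G), conj (f x : ℂ) * (h y : ℂ) *
              ∑ ψ : Cfsg.IrrCharacter G, (ψ : G → ℂ) x * conj ((ψ : G → ℂ) y) =
              ∑ g : G, if g * x * g⁻¹ = (y : G) then conj (f x : ℂ) * (h y : ℂ) else 0 := by
            intro y
            rw [sum_irr_mul_conj, Nat.card_eq_fintype_card, Fintype.card_subtype,
              ← Finset.sum_boole, Finset.mul_sum]
            exact Finset.sum_congr rfl fun g _ => by split_ifs <;> simp
          rw [Finset.sum_congr rfl fun y _ => e y, Finset.sum_comm]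
          refine Finset.sum_congr rfl fun g _ => ?_
          simp only [F]
          split_ifs with hg
          · rw [Finset.sum_eq_single ⟨_, hg⟩]
            · rw [if_pos rfl]
            · intro y _ hy
              rw [if_neg fun e' => hy (Subtype.ext e'.symm)]
            · exact fun h' => absurd (Finset.mem_univ _) h'
          · exact Finset.sum_eq_zero fun y _ => if_neg fun e' : g * x * g⁻¹ = (y : G) => hg (e' ▸ y.2)
      _ = _ := Finset.sum_comm
  -- the sum for each `g`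
  have h2 : ∀ g : G, g ∉ NN P → ∑ x : (P : Subgroup G), F g x = 1 := by
    intro g hg
    rw [Finset.sum_eq_single 1]
    · have : g * ((1 : (P : Subgroup G)) : G) * g⁻¹ ∈ (P : Subgroup G) := by simp
      simp only [F, dif_pos this]
      rw [show (⟨_, this⟩ : (P : Subgroup G)) = 1 from Subtype.ext (by simp)]
      simp
    · intro x _ hx
      simp only [F]
      refine dif_neg fun hgx => hg ?_
      have hx1 : (x : G) ≠ 1 := fun e => hx (Subtype.ext e)
      have hy1 : g * x * g⁻¹ ≠ 1 := fun e => hx1 (conj_eq_one_iff.1 e)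
      rw [NN, Subgroup.mem_normalizer_iff]
      intro z
      rw [← hc x x.2 hx1]
      conv_rhs => rw [hc x x.2 hx1, ← hc _ hgx hy1]
      simp only [Subgroup.mem_centralizer_singleton_iff]
      constructor
      · intro hz
        calc g * z * g⁻¹ * (g * x * g⁻¹) = g * (z * x) * g⁻¹ := by group
          _ = g * (x * z) * g⁻¹ := by rw [hz]
          _ = g * x * g⁻¹ * (g * z * g⁻¹) := by group
      · intro hz
        have hz' : g * (z * x) * g⁻¹ = g * (x * z) * g⁻¹ := by
          calc g * (z * x) * g⁻¹ = g * z * g⁻¹ * (g * x * g⁻¹) := by group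
            _ = g * x * g⁻¹ * (g * z * g⁻¹) := hz
            _ = g * (x * z) * g⁻¹ := by group
        exact mul_left_cancel (mul_right_cancel hz')
    · exact fun h' => absurd (Finset.mem_univ _) h'
  have h3 : ∀ g : NN P, ∑ x : (P : Subgroup G), F g x = if g⁻¹ • h = f then n else 0 := by
    intro g
    have e := CfsgLib.OddOrderChar.classInner_hom (g⁻¹ • h) f
    rw [Cfsg.classInner] at e
    have e' : ∑ x : (P : Subgroup G), ((g⁻¹ • h) x : ℂ) * conj (f x : ℂ) =
        n * if g⁻¹ • h = f then 1 else 0 := by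
      rw [← e, ← mul_assoc, mul_inv_cancel₀ hn0, one_mul]
    rw [mul_ite, mul_one, mul_zero] at e'
    rw [← e']
    refine Finset.sum_congr rfl fun x _ => ?_
    have hgx : (g : G) * x * (g : G)⁻¹ ∈ (P : Subgroup G) :=
      (Subgroup.mem_normalizer_iff.1 g.2 x).1 x.2
    simp only [F, dif_pos hgx, smul_DD]
    rw [mul_comm]
    congr 3
    exact Subtype.ext (by simp [coe_cjP])
  rw [h1, ← Finset.sum_filter_add_sum_filter_not Finset.univ (· ∈ NN P),
    Finset.sum_congr rfl fun g hg => h2 g (Finset.mem_filter.1 hg).2, Finset.sum_const, nsmul_one,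
    Finset.sum_subtype (p := (· ∈ NN P)) (Finset.univ.filter (· ∈ NN P)) (by simp)
      (fun g => ∑ x : (P : Subgroup G), F g x),
    Finset.sum_congr rfl fun g _ => h3 g]
  have hcount : Nat.card {g : NN P // g • h = f} =
      (Finset.univ.filter fun g : NN P => g⁻¹ • h = f).card := by
    rw [← Fintype.card_subtype, ← Nat.card_eq_fintype_card]
    exact Nat.card_congr (Equiv.subtypeEquiv (Equiv.inv _) fun g => by simp)
  have hG : (Finset.univ.filter fun g : G => g ∈ NN P).card +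
      (Finset.univ.filter fun g : G => g ∉ NN P).card = Nat.card G := by
    rw [Finset.card_filter_add_card_filter_not, Finset.card_univ, Nat.card_eq_fintype_card]
  rw [← Finset.sum_filter, Finset.sum_const, nsmul_eq_mul, ← hcount,
    show Nat.card (NN P) = (Finset.univ.filter fun g : G => g ∈ NN P).card by
      rw [← Fintype.card_subtype, ← Nat.card_eq_fintype_card], ← hG]
  push_cast
  ring

include hc in
/-- The sum of the squares of the differences of the multiplicities. -/
theorem sum_mc_sub_sq (f h : DD P) :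
    (Nat.card (P : Subgroup G) : ℤ) *
        ∑ ψ : Cfsg.IrrCharacter G, ((mc ψ f : ℤ) - mc ψ h) ^ 2 =
      (Nat.card {g : NN P // g • f = f} : ℤ) + Nat.card {g : NN P // g • h = h} -
        2 * Nat.card {g : NN P // g • h = f} := by
  apply Int.cast_injective (α := ℂ)
  push_cast
  have hn0 : (Nat.card (P : Subgroup G) : ℂ) ≠ 0 := natCard_ne_zero
  refine mul_left_cancel₀ hn0 ?_
  have e : ∀ ψ : Cfsg.IrrCharacter G, ((mc ψ f : ℂ) - mc ψ h) ^ 2 =
      (mc ψ f : ℂ) * mc ψ f + (mc ψ h : ℂ) * mc ψ h - 2 * ((mc ψ f : ℂ) * mc ψ h) := fun ψ => by ring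
  rw [Finset.sum_congr rfl fun ψ _ => e ψ, Finset.sum_sub_distrib, Finset.sum_add_distrib,
    ← Finset.mul_sum]
  linear_combination sum_mc_mul hc f f + sum_mc_mul hc h h - 2 * sum_mc_mul hc f h

include hc in
theorem card_stab {f : DD P} (hf : f ≠ 1) :
    Nat.card {g : NN P // g • f = f} = Nat.card (P : Subgroup G) := by
  obtain ⟨x, hx⟩ : ∃ x : (P : Subgroup G), x ≠ 1 := by
    by_contra hh
    push Not at hh
    exact hf (MonoidHom.ext fun y => by rw [hh y, map_one, map_one])
  refine Eq.trans (Nat.card_congr (Equiv.subtypeEquivRight fun g => ?_))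
    (Nat.card_congr (Subgroup.subgroupOfEquivOfLe (CC_le_NN (P := P))).toEquiv |>.trans
      (by rw [hc.CC_eq x.2 (fun e => hx (Subtype.ext e))]))
  rw [← stabilizer_eq hc.isStar hf, MulAction.mem_stabilizer_iff]

include hc in
theorem card_stab_one (hx : ∃ x ∈ (P : Subgroup G), x ≠ 1) :
    Nat.card {g : NN P // g • (1 : DD P) = 1} = ee P * Nat.card (P : Subgroup G) := by
  obtain ⟨x, hxP, hx1⟩ := hx
  rw [Nat.card_congr (Equiv.subtypeUnivEquiv (fun g => smul_one_DD g)), card_NN,
    hc.CC_eq hxP hx1]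

variable {Ω : Type v} [Fintype Ω] [MulAction G Ω] [MulAction.IsPretransitive G Ω]

include hc in
/-- The bound on the degree. -/
theorem degree_le (hK : NoProper P) (hreg : ∀ x ∈ (P : Subgroup G), x ≠ 1 → ∀ ω : Ω, x • ω ≠ ω)
    (hcard : Nat.card (P : Subgroup G) = Nat.card Ω) {a b c : Ω} (hb : b ≠ a) (hca : c ≠ a)
    (hbc : c ∉ MulAction.orbit (MulAction.stabilizer G a) b) (ht : 2 ≤ ee P) :
    Nat.card Ω - 1 ≤ ee P * (ee P - 1) ∧
      (Nat.card Ω - 1 = ee P * (ee P - 1) → ee P ≤ 4) := by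
  classical
  haveI : Nonempty Ω := ⟨a⟩
  haveI := Fintype.ofFinite (DD P)
  set t := ee P with ht'
  set n := Nat.card Ω with hn'
  have hn2 : 2 ≤ n := by
    rw [hn', Nat.card_eq_fintype_card]
    exact Fintype.one_lt_card_iff.2 ⟨b, a, hb⟩
  obtain ⟨x0, hx0, hx01⟩ : ∃ x ∈ (P : Subgroup G), x ≠ 1 := by
    by_contra hh
    push Not at hh
    have : (P : Subgroup G) = ⊥ := (Subgroup.eq_bot_iff_forall _).2 hh
    rw [this, Subgroup.card_bot] at hcard
    omega
  have hcardD : Fintype.card (DD P) = n := by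
    rw [← Nat.card_eq_fintype_card, card_DD hc.isStar, hcard]
  -- the permutation character
  obtain ⟨m, hm, -, hrank⟩ := CfsgLib.Perm.PermChar.exists_mult (G := G) (Ω := Ω)
  have hm1 : m (trivChar G) = 1 := by
    apply Nat.cast_injective (R := ℂ)
    rw [← hm, Nat.cast_one]
    exact CfsgLib.Perm.PermChar.inner_one_of_transitive
  have hsum : ∀ f : DD P, ∑ ψ : Cfsg.IrrCharacter G, m ψ * mc ψ f = 1 := by
    intro f
    apply Nat.cast_injective (R := ℂ)
    push_cast
    have e : (fun x : (P : Subgroup G) => CfsgLib.Perm.PermChar.perm G Ω (x : G)) =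
        ∑ ψ : Cfsg.IrrCharacter G, (m ψ : ℂ) • fun x : (P : Subgroup G) => (ψ : G → ℂ) x := by
      funext x
      rw [character_expansion (CfsgLib.Perm.PermChar.isCharacter_perm (G := G) (Ω := Ω))]
      simp [hm, Finset.sum_apply]
    have e2 : Cfsg.classInner (fun x : (P : Subgroup G) => CfsgLib.Perm.PermChar.perm G Ω (x : G))
        (fun x => (f x : ℂ)) = 1 := by
      rw [Cfsg.classInner, Finset.sum_eq_single 1]
      · rw [OneMemClass.coe_one, CfsgLib.Perm.PermChar.perm_one, map_one, Units.val_one, map_one,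
          mul_one, hcard, inv_mul_cancel₀ (by exact_mod_cast (by omega : n ≠ 0))]
      · intro x _ hx
        have : MulAction.fixedBy Ω (x : G) = ∅ := Set.eq_empty_of_forall_notMem fun ω hω =>
          hreg x x.2 (fun e' => hx (Subtype.ext e')) ω hω
        rw [CfsgLib.Perm.PermChar.perm, this]
        simp
      · exact fun h => absurd (Finset.mem_univ _) h
    rw [← e2, e, classInner_sum_left]
    refine Finset.sum_congr rfl fun ψ _ => ?_
    rw [classInner_smul_left, mc_spec]
  have htm : ∀ f : DD P, mc (trivChar G) f = if f = 1 then 1 else 0 := fun f => mc_trivChar f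
  -- constituents do not contain the trivial character
  have hone : ∀ ψ, ψ ≠ trivChar G → m ψ * mc ψ (1 : DD P) = 0 := by
    intro ψ hψ
    have h := hsum 1
    rw [← Finset.add_sum_erase _ _ (Finset.mem_univ (trivChar G)), hm1, htm, if_pos rfl] at h
    have := Finset.single_le_sum (f := fun φ => m φ * mc φ (1 : DD P)) (fun _ _ => Nat.zero_le _)
      (Finset.mem_erase.2 ⟨hψ, Finset.mem_univ ψ⟩)
    omega
  have hker : ∀ ψ : Cfsg.IrrCharacter G, (∀ f : DD P, f ≠ 1 → mc ψ f = 0) → ψ = trivChar G := by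
    intro ψ hψ
    refine CfsgLib.PrincipalBlock.eq_trivChar_of_charKer_eq_top
      (hK (charKer ψ) inferInstance fun y hy => mem_charKer.2 ?_)
    rw [show y = ((⟨y, hy⟩ : (P : Subgroup G)) : G) from rfl, apply_eq_sum hc,
      show (1 : G) = ((1 : (P : Subgroup G)) : G) from rfl, apply_eq_sum hc]
    refine Finset.sum_congr rfl fun f _ => ?_
    by_cases hf : f = 1
    · simp [hf]
    · simp [hψ f hf]
  have hcst : ∀ ψ, ψ ≠ trivChar G → m ψ ≠ 0 →
      m ψ = 1 ∧ mc ψ (1 : DD P) = 0 ∧ ∃ f : DD P, f ≠ 1 ∧ mc ψ f = 1 := by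
    intro ψ hψ hmψ
    obtain ⟨f, hf, hmf⟩ : ∃ f : DD P, f ≠ 1 ∧ mc ψ f ≠ 0 := by
      by_contra hh
      push Not at hh
      exact hψ (hker ψ hh)
    have h := hsum f
    have hle := Finset.single_le_sum (f := fun φ => m φ * mc φ f) (fun _ _ => Nat.zero_le _)
      (Finset.mem_univ ψ)
    have h1 : m ψ * mc ψ f = 1 := by
      have : 0 < m ψ * mc ψ f := Nat.pos_of_ne_zero (mul_ne_zero hmψ hmf)
      omega
    exact ⟨Nat.eq_one_of_mul_eq_one_right h1, (mul_eq_zero.1 (hone ψ hψ)).resolve_left hmψ,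
      f, hf, Nat.eq_one_of_mul_eq_one_left h1⟩
  -- a non-trivial character of `P` lies in exactly one constituent
  have huniq : ∀ f : DD P, f ≠ 1 → ∀ ψ φ, m ψ * mc ψ f ≠ 0 → m φ * mc φ f ≠ 0 → ψ = φ := by
    intro f _ ψ φ hψ hφ
    by_contra hne
    have h := hsum f
    rw [← Finset.add_sum_erase _ _ (Finset.mem_univ ψ)] at h
    have := Finset.single_le_sum (f := fun χ => m χ * mc χ f) (fun _ _ => Nat.zero_le _)
      (Finset.mem_erase.2 ⟨Ne.symm hne, Finset.mem_univ φ⟩)
    omega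
  have hex : ∀ f : DD P, f ≠ 1 → ∃ ψ, ψ ≠ trivChar G ∧ m ψ = 1 ∧ mc ψ f = 1 := by
    intro f hf
    obtain ⟨ψ, -, hψ⟩ := Finset.exists_ne_zero_of_sum_ne_zero (hsum f ▸ one_ne_zero)
    have hψ1 : ψ ≠ trivChar G := fun e => by rw [e, htm, if_neg hf, mul_zero] at hψ; exact hψ rfl
    refine ⟨ψ, hψ1, (hcst ψ hψ1 (left_ne_zero_of_mul hψ)).1, ?_⟩
    have h := hsum f
    have hle := Finset.single_le_sum (f := fun φ => m φ * mc φ f) (fun _ _ => Nat.zero_le _)
      (Finset.mem_univ ψ)
    exact Nat.eq_one_of_mul_eq_one_left (by omega : m ψ * mc ψ f = 1)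
  -- rank at least three
  have hrk : 3 ≤ Nat.card (MulAction.orbitRel.Quotient G (Ω × Ω)) := by
    have : Function.Injective (![(Quotient.mk'' (a, a) : MulAction.orbitRel.Quotient G (Ω × Ω)),
        Quotient.mk'' (a, b), Quotient.mk'' (a, c)]) := by
      have key : ∀ u v : Ω, (Quotient.mk'' (a, u) : MulAction.orbitRel.Quotient G (Ω × Ω)) =
          Quotient.mk'' (a, v) → u ∈ MulAction.orbit (MulAction.stabilizer G a) v := by
        intro u v e
        obtain ⟨g, hg⟩ := Quotient.eq''.1 e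
        exact ⟨⟨g, congrArg Prod.fst hg⟩, congrArg Prod.snd hg⟩
      have keya : ∀ u : Ω, u ∈ MulAction.orbit (MulAction.stabilizer G a) a → u = a := by
        rintro _ ⟨g, rfl⟩
        exact g.2
      intro i j e
      fin_cases i <;> fin_cases j <;> simp at e ⊢
      · exact hb (keya b (key b a e.symm))
      · exact hca (keya c (key c a e.symm))
      · exact hb (keya b (key b a e))
      · exact hbc (key c b e.symm)
      · exact hca (keya c (key c a e))
      · exact hbc (key c b e)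
    have := Nat.card_le_card_of_injective _ this
    simpa using this
  obtain ⟨ψ₁, ψ₂, hψ₁, hψ₂, hm₁, hm₂, hne⟩ : ∃ ψ₁ ψ₂, ψ₁ ≠ trivChar G ∧ ψ₂ ≠ trivChar G ∧
      m ψ₁ ≠ 0 ∧ m ψ₂ ≠ 0 ∧ ψ₁ ≠ ψ₂ := by
    by_contra hh
    have hle : ((Finset.univ.erase (trivChar G)).filter fun ψ => m ψ ≠ 0).card ≤ 1 := by
      rw [Finset.card_le_one]
      intro x hx y hy
      simp only [Finset.mem_filter, Finset.mem_erase, Finset.mem_univ, and_true] at hx hy
      by_contra hxy
      exact hh ⟨x, y, hx.1, hy.1, hx.2, hy.2, hxy⟩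
    rw [← Finset.add_sum_erase _ _ (Finset.mem_univ (trivChar G)), hm1,
      ← Finset.sum_filter_ne_zero] at hrank
    have : ∑ ψ ∈ (Finset.univ.erase (trivChar G)).filter (fun ψ => m ψ * m ψ ≠ 0), m ψ * m ψ ≤ 1 := by
      have hfil : ((Finset.univ.erase (trivChar G)).filter fun ψ => m ψ * m ψ ≠ 0) =
          ((Finset.univ.erase (trivChar G)).filter fun ψ => m ψ ≠ 0) :=
        Finset.filter_congr fun ψ _ => by simp
      rw [hfil]
      refine le_trans (le_of_eq ?_) hle
      rw [Finset.card_eq_sum_ones]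
      refine Finset.sum_congr rfl fun ψ hψ => ?_
      simp only [Finset.mem_filter, Finset.mem_erase, Finset.mem_univ, and_true] at hψ
      rw [(hcst ψ hψ.1 hψ.2).1]
    omega
  obtain ⟨hm₁', h₁0, f₁, hf₁, hmf₁⟩ := hcst ψ₁ hψ₁ hm₁
  obtain ⟨hm₂', h₂0, f₂, hf₂, hmf₂⟩ := hcst ψ₂ hψ₂ hm₂
  have horb : ∀ f h : DD P, f ≠ 1 → f ∉ MulAction.orbit (NN P) h → h ≠ 1 →
      ∑ ψ : Cfsg.IrrCharacter G, ((mc ψ f : ℤ) - mc ψ h) ^ 2 = 2 := by
    intro f h hf hfh hh
    have e := sum_mc_sub_sq hc f h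
    rw [card_stab hc hf, card_stab hc hh] at e
    have h0 : Nat.card {g : NN P // g • h = f} = 0 := by
      haveI : IsEmpty {g : NN P // g • h = f} := ⟨fun g => hfh ⟨g.1, g.2⟩⟩
      exact Nat.card_of_isEmpty
    rw [h0, hcard] at e
    refine mul_left_cancel₀ (a := (n : ℤ)) (by exact_mod_cast (by omega : n ≠ 0)) ?_
    rw [e]
    ring
  have hdiff : ∀ ψ φ : Cfsg.IrrCharacter G, ψ ≠ trivChar G → φ ≠ trivChar G → m ψ = 1 → m φ = 1 →
      ψ ≠ φ → ∀ f h : DD P, f ≠ 1 → h ≠ 1 → mc ψ f = 1 → mc φ h = 1 →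
      ∀ χ, χ ≠ ψ → χ ≠ φ → mc χ f = mc χ h := by
    intro ψ φ _ _ hmψ hmφ hψφ f h hf hh hψf hφh χ hχ1 hχ2
    have hψh : mc ψ h = 0 := by
      by_contra h0
      exact hψφ (huniq h hh ψ φ (by simp [hmψ, h0]) (by simp [hmφ, hφh]))
    have hφf : mc φ f = 0 := by
      by_contra h0
      exact hψφ (huniq f hf ψ φ (by simp [hmψ, hψf]) (by simp [hmφ, h0]))
    have hfh : f ∉ MulAction.orbit (NN P) h := by
      rintro ⟨g, rfl⟩
      rw [mc_smul] at hψf
      omega
    have e := horb f h hf hfh hh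
    rw [← Finset.add_sum_erase _ _ (Finset.mem_univ ψ),
      ← Finset.add_sum_erase _ _ (Finset.mem_erase.2 ⟨Ne.symm hψφ, Finset.mem_univ φ⟩),
      hψf, hψh, hφf, hφh] at e
    have e' : ∑ x ∈ (Finset.univ.erase ψ).erase φ, ((mc x f : ℤ) - mc x h) ^ 2 = 0 := by
      push_cast at e ⊢
      linarith
    have := (Finset.sum_eq_zero_iff_of_nonneg (fun i _ => sq_nonneg _)).1 e' χ
      (Finset.mem_erase.2 ⟨hχ2, Finset.mem_erase.2 ⟨hχ1, Finset.mem_univ χ⟩⟩)
    have := pow_eq_zero_iff (two_ne_zero) |>.1 this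
    omega
  -- the first constituent is one orbit
  have hS : ∀ f : DD P, mc ψ₁ f = if f ∈ MulAction.orbit (NN P) f₁ then 1 else 0 := by
    intro f
    split_ifs with hfo
    · obtain ⟨g, rfl⟩ := hfo
      rw [mc_smul, hmf₁]
    · by_contra h0
      have hf : f ≠ 1 := fun e => h0 (e ▸ h₁0)
      have hf1 : mc ψ₁ f = 1 := by
        obtain ⟨ψ, -, hmψ, hψf⟩ := hex f hf
        rwa [huniq f hf ψ₁ ψ (by simp [hm₁', h0]) (by simp [hmψ, hψf])]
      have e := horb f f₁ hf hfo hf₁
      have e0 : ∀ χ : Cfsg.IrrCharacter G, ((mc χ f : ℤ) - mc χ f₁) ^ 2 = 0 := by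
        intro χ
        by_cases h1 : χ = ψ₁
        · simp [h1, hf1, hmf₁]
        by_cases h2 : χ = ψ₂
        · have z1 : mc ψ₂ f = 0 := by
            by_contra z
            exact hne (huniq f hf ψ₁ ψ₂ (by simp [hm₁', hf1]) (by simp [hm₂', z]))
          have z2 : mc ψ₂ f₁ = 0 := by
            by_contra z
            exact hne (huniq f₁ hf₁ ψ₁ ψ₂ (by simp [hm₁', hmf₁]) (by simp [hm₂', z]))
          simp [h2, z1, z2]
        rw [hdiff ψ₁ ψ₂ hψ₁ hψ₂ hm₁' hm₂' hne f f₂ hf hf₂ hf1 hmf₂ χ h1 h2,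
          hdiff ψ₁ ψ₂ hψ₁ hψ₂ hm₁' hm₂' hne f₁ f₂ hf₁ hf₂ hmf₁ hmf₂ χ h1 h2]
        simp
      simp [e0] at e
  have hdeg : deg ψ₁ = t := by
    rw [deg_eq_sum_mc hc, Finset.sum_congr rfl fun f _ => hS f, ← Finset.sum_filter,
      ← Finset.card_eq_sum_ones, ← Fintype.card_subtype, ← Nat.card_eq_fintype_card,
      Nat.card_coe_set_eq, ncard_orbit hc.isStar hf₁]
  -- the trivial character in the square
  have htt : ∑ χ : Cfsg.IrrCharacter G, cW ψ₁ χ * mc χ (1 : DD P) = t := by
    rw [← hdeg, deg_eq_sum_mc hc]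
    apply Nat.cast_injective (R := ℂ)
    push_cast
    have hn0 : (Nat.card (P : Subgroup G) : ℂ) ≠ 0 := natCard_ne_zero
    calc ∑ χ : Cfsg.IrrCharacter G, (cW ψ₁ χ : ℂ) * mc χ (1 : DD P)
        = Cfsg.classInner (fun x : (P : Subgroup G) => absSq ψ₁ x) (fun x => ((1 : DD P) x : ℂ)) := by
          have e : (fun x : (P : Subgroup G) => absSq ψ₁ x) =
              ∑ χ : Cfsg.IrrCharacter G, (cW ψ₁ χ : ℂ) • fun x : (P : Subgroup G) => (χ : G → ℂ) x := by
            funext x
            rw [absSq_eq, Finset.sum_apply]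
            rfl
          rw [e, classInner_sum_left]
          exact Finset.sum_congr rfl fun χ _ => by rw [classInner_smul_left, mc_spec]
      _ = ∑ f : DD P, (mc ψ₁ f : ℂ) * mc ψ₁ f := by
          rw [Cfsg.classInner]
          simp only [absSq, MonoidHom.one_apply, Units.val_one, map_one, mul_one]
          have e : ∀ x : (P : Subgroup G), conj ((ψ₁ : G → ℂ) x) =
              ∑ f : DD P, (mc ψ₁ f : ℂ) * conj (f x : ℂ) := fun x => by
            rw [apply_eq_sum hc, map_sum]
            simp [map_mul]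
          rw [Finset.mul_sum]
          simp only [e, Finset.mul_sum]
          rw [Finset.sum_comm]
          refine Finset.sum_congr rfl fun f _ => ?_
          conv_rhs => arg 2; rw [← mc_spec ψ₁ f, Cfsg.classInner, Finset.mul_sum]
          rw [Finset.mul_sum]
          exact Finset.sum_congr rfl fun x _ => by ring
      _ = ∑ f : DD P, (mc ψ₁ f : ℂ) := by
          refine Finset.sum_congr rfl fun f _ => ?_
          rw [hS f]
          split_ifs <;> simp
  have hsq : ∑ χ : Cfsg.IrrCharacter G, cW ψ₁ χ * deg χ = t * t := by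
    apply Nat.cast_injective (R := ℂ)
    push_cast
    have := absSq_eq ψ₁ 1
    rw [absSq, deg_spec, hdeg, Complex.conj_natCast] at this
    rw [this]
    exact Finset.sum_congr rfl fun χ _ => by rw [deg_spec]
  -- the other characters containing the trivial one
  have hconst : ∀ χ : Cfsg.IrrCharacter G, χ ≠ trivChar G → mc χ (1 : DD P) ≠ 0 →
      mc χ f₁ ≠ 0 ∧ ∀ f : DD P, f ≠ 1 → mc χ f = mc χ f₁ := by
    intro χ hχ h1
    have hmχ : m χ = 0 := (mul_eq_zero.1 (hone χ hχ)).resolve_right h1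
    have hne' : ∀ ψ, m ψ = 1 → χ ≠ ψ := fun ψ hψ e => by rw [e, hψ] at hmχ; omega
    have hall : ∀ f : DD P, f ≠ 1 → mc χ f = mc χ f₁ := by
      intro f hf
      obtain ⟨ψ, hψ, hmψ, hψf⟩ := hex f hf
      by_cases e : ψ = ψ₁
      · subst e
        have := hS f
        rw [hψf] at this
        by_cases hfo : f ∈ MulAction.orbit (NN P) f₁
        · obtain ⟨g, rfl⟩ := hfo
          exact mc_smul χ g f₁
        · rw [if_neg hfo] at this
          omega
      · exact hdiff ψ ψ₁ hψ hψ₁ hmψ hm₁' e f f₁ hf hf₁ hψf hmf₁ χ (hne' ψ hmψ) (hne' ψ₁ hm₁')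
    refine ⟨fun h0 => hχ (hker χ fun f hf => (hall f hf).trans h0), hall⟩
  have hdegχ : ∀ χ : Cfsg.IrrCharacter G, χ ≠ trivChar G → mc χ (1 : DD P) ≠ 0 →
      deg χ = mc χ (1 : DD P) + (n - 1) * mc χ f₁ := by
    intro χ hχ h1
    rw [deg_eq_sum_mc hc, ← Finset.add_sum_erase _ _ (Finset.mem_univ (1 : DD P)),
      Finset.sum_congr rfl (g := fun _ => mc χ f₁)
        fun f hf => (hconst χ hχ h1).2 f (Finset.ne_of_mem_erase hf),
      Finset.sum_const, Finset.card_erase_of_mem (Finset.mem_univ _), Finset.card_univ, hcardD,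
      smul_eq_mul]
  set A := (Finset.univ.erase (trivChar G)).filter fun χ => cW ψ₁ χ * mc χ (1 : DD P) ≠ 0 with hA
  have hA1 : ∑ χ ∈ A, cW ψ₁ χ * mc χ (1 : DD P) = t - 1 := by
    rw [hA, Finset.sum_filter_ne_zero]
    rw [← Finset.add_sum_erase _ _ (Finset.mem_univ (trivChar G)), cW_trivChar, htm, if_pos rfl]
      at htt
    omega
  have hmemA : ∀ χ ∈ A, χ ≠ trivChar G ∧ cW ψ₁ χ ≠ 0 ∧ mc χ (1 : DD P) ≠ 0 := fun χ hχ => by
    simp only [A, Finset.mem_filter, Finset.mem_erase, ne_eq, mul_eq_zero, not_or] at hχ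
    exact ⟨hχ.1.1, hχ.2.1, hχ.2.2⟩
  have hA2 : 1 + ((t - 1) + (n - 1) * ∑ χ ∈ A, cW ψ₁ χ * mc χ f₁) ≤ t * t := by
    rw [← hA1, Finset.mul_sum, ← Finset.sum_add_distrib, ← hsq,
      ← Finset.add_sum_erase _ _ (Finset.mem_univ (trivChar G)), cW_trivChar]
    refine Nat.add_le_add ?_ ((Finset.sum_le_sum fun χ hχ => le_of_eq ?_).trans
      (Finset.sum_le_sum_of_subset (Finset.filter_subset _ _)))
    · rw [one_mul]
      exact Nat.one_le_iff_ne_zero.2 (deg_pos _).ne'
    · rw [hdegχ χ (hmemA χ hχ).1 (hmemA χ hχ).2.2]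
      ring
  obtain ⟨χ₀, hχ₀⟩ : A.Nonempty := Finset.nonempty_of_sum_ne_zero (f := fun χ => cW ψ₁ χ * mc χ (1 : DD P)) (by rw [hA1]; omega)
  have hpos : ∀ χ ∈ A, 1 ≤ cW ψ₁ χ * mc χ f₁ := fun χ hχ =>
    Nat.one_le_iff_ne_zero.2 (mul_ne_zero (hmemA χ hχ).2.1
      (hconst χ (hmemA χ hχ).1 (hmemA χ hχ).2.2).1)
  have hsumpos : 1 ≤ ∑ χ ∈ A, cW ψ₁ χ * mc χ f₁ := (hpos χ₀ hχ₀).trans
    (Finset.single_le_sum (f := fun χ => cW ψ₁ χ * mc χ f₁) (fun _ _ => Nat.zero_le _) hχ₀)
  have htq : t * (t - 1) + t = t * t := by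
    conv_lhs => rw [← Nat.mul_succ]
    congr 1
    omega
  refine ⟨?_, fun heq => ?_⟩
  · have := Nat.le_mul_of_pos_right (n - 1) hsumpos
    omega
  · -- equality
    have hone' : ∑ χ ∈ A, cW ψ₁ χ * mc χ f₁ = 1 := by
      have h2 : (n - 1) * ∑ χ ∈ A, cW ψ₁ χ * mc χ f₁ ≤ (n - 1) * 1 := by omega
      exact le_antisymm (Nat.le_of_mul_le_mul_left h2 (by omega)) hsumpos
    have hsingle : A = {χ₀} := by
      refine Finset.eq_singleton_iff_unique_mem.2 ⟨hχ₀, fun χ hχ => ?_⟩
      by_contra hne'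
      rw [← Finset.add_sum_erase _ _ hχ₀] at hone'
      have := Finset.single_le_sum (f := fun φ => cW ψ₁ φ * mc φ f₁) (fun _ _ => Nat.zero_le _)
        (Finset.mem_erase.2 ⟨hne', hχ⟩)
      have := hpos χ₀ hχ₀
      have := hpos χ hχ
      omega
    rw [hsingle, Finset.sum_singleton] at hone' hA1
    have hc1 := Nat.eq_one_of_mul_eq_one_right hone'
    have hf1' := Nat.eq_one_of_mul_eq_one_left hone'
    rw [hc1, one_mul] at hA1
    obtain ⟨hχ1, -, hχm⟩ := hmemA χ₀ hχ₀
    have hψχ : χ₀ ≠ ψ₁ := fun e => by rw [e, h₁0] at hχm; exact hχm rfl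
    have e := sum_mc_sub_sq hc f₁ 1
    rw [card_stab hc hf₁, card_stab_one hc ⟨x0, hx0, hx01⟩, hcard] at e
    have h0 : Nat.card {g : NN P // g • (1 : DD P) = f₁} = 0 := by
      haveI : IsEmpty {g : NN P // g • (1 : DD P) = f₁} :=
        ⟨fun g => hf₁ (g.2.symm.trans (smul_one_DD g.1))⟩
      exact Nat.card_of_isEmpty
    rw [h0] at e
    have e' : ∑ ψ : Cfsg.IrrCharacter G, ((mc ψ f₁ : ℤ) - mc ψ (1 : DD P)) ^ 2 = (t : ℤ) + 1 := by
      refine mul_left_cancel₀ (a := (n : ℤ)) (by exact_mod_cast (by omega : n ≠ 0)) ?_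
      rw [e]
      push_cast
      ring
    have hle := Finset.sum_le_sum_of_subset_of_nonneg
      (f := fun ψ : Cfsg.IrrCharacter G => ((mc ψ f₁ : ℤ) - mc ψ (1 : DD P)) ^ 2)
      (Finset.subset_univ ({trivChar G, ψ₁, χ₀} : Finset _)) fun _ _ _ => sq_nonneg _
    rw [e', Finset.sum_insert (by simp [hψ₁.symm, hχ1.symm]),
      Finset.sum_insert (by simpa using hψχ.symm), Finset.sum_singleton, htm, if_neg hf₁, htm,
      if_pos rfl, hmf₁, h₁0, hf1', hA1] at hle
    push_cast [Nat.cast_sub (by omega : 1 ≤ t)] at hle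
    nlinarith

end CfsgLib.DerangedIndex
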