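import Cfsg.Agent.DerangedIndex.Basic

/-!
# Prime divisors of the degree

With `k` the index of `D`: for every prime `p` dividing the degree `n` some `p ^ e` with
`1 ≤ e` and `p ^ e ∣ n` is congruent to `1` modulo `k`.  So `(k + 1) ^ 2 ≤ n` unless `n` is a prime
power, `D` has trivial Sylow subgroups at that prime in its point stabilisers, and the action is
primitive.
-/

set_option autoImplicit false
set_option linter.unusedSectionVars false
set_option linter.style.haveILetI false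

open MulAction
open scoped Pointwise

namespace CfsgLib.DerangedIndex

/-- `k` divides `p ^ a - 1` and `p ^ b - 1` with `0 < a < b`. -/
theorem sq_le_of_dvd_two {k p a b : ℕ} (_hk : 1 ≤ k) (hp : 2 ≤ p) (ha : 1 ≤ a) (hab : a < b)
    (h1 : k ∣ p ^ a - 1) (h2 : k ∣ p ^ b - 1) : (k + 1) ^ 2 ≤ p ^ b := by
  have hg := Nat.dvd_gcd h1 h2
  rw [Nat.pow_sub_one_gcd_pow_sub_one] at hg
  obtain ⟨c, hc⟩ := Nat.gcd_dvd_right a b
  set g := Nat.gcd a b
  have hg0 : 0 < g := Nat.gcd_pos_of_pos_left _ ha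
  have hga : g ≤ a := Nat.le_of_dvd ha (Nat.gcd_dvd_left a b)
  have hc2 : 2 ≤ c := by
    by_contra hh
    interval_cases c <;> omega
  have hpg : 2 ≤ p ^ g := hp.trans (Nat.le_self_pow hg0.ne' p)
  have hle : k + 1 ≤ p ^ g := by have := Nat.le_of_dvd (by omega) hg; omega
  calc (k + 1) ^ 2 ≤ (p ^ g) ^ 2 := Nat.pow_le_pow_left hle 2
    _ ≤ (p ^ g) ^ c := Nat.pow_le_pow_right (by omega) hc2
    _ = p ^ b := by rw [← pow_mul, ← hc]

variable {G : Type*} [Group G] [Finite G] {D : Subgroup G} [D.Normal]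

/-- The Frattini argument. -/
theorem Onto.normalizer {X : Subgroup G} (hX : Onto X D) {p : ℕ} [Fact p.Prime] {R : Subgroup G}
    (hR : R ≤ X ⊓ D) (hRp : IsPGroup p R)
    (hmax : ∀ Q : Subgroup G, Q ≤ X ⊓ D → IsPGroup p Q → Nat.card Q ≤ Nat.card R) :
    Onto (X ⊓ Subgroup.normalizer (R : Set G)) D := by
  intro g
  obtain ⟨x, hx, hxd⟩ := hX g
  set Rc : Subgroup G := R.map (MulAut.conj x).toMonoidHom
  have hcard : Nat.card Rc = Nat.card R :=
    (Nat.card_congr (Subgroup.equivMapOfInjective _ _ (MulAut.conj x).injective).toEquiv).symm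
  have hRcle : Rc ≤ X ⊓ D := by
    rintro _ ⟨r, hr, rfl⟩
    have h1 := Subgroup.mem_inf.1 (hR hr)
    exact Subgroup.mem_inf.2 ⟨mul_mem (mul_mem hx h1.1) (inv_mem hx), Subgroup.Normal.conj_mem ‹_› _ h1.2 x⟩
  let S₁ : Subgroup (X ⊓ D : Subgroup G) := R.subgroupOf (X ⊓ D)
  let S₂ : Subgroup (X ⊓ D : Subgroup G) := Rc.subgroupOf (X ⊓ D)
  have h1 : IsPGroup p S₁ := hRp.of_equiv (Subgroup.subgroupOfEquivOfLe hR).symm
  have h2 : IsPGroup p S₂ := (hRp.map _).of_equiv (Subgroup.subgroupOfEquivOfLe hRcle).symm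
  have top_of : ∀ (A : Subgroup G) (hA : A ≤ X ⊓ D), Nat.card A = Nat.card R →
      ∀ Q : Subgroup (X ⊓ D : Subgroup G), IsPGroup p Q → A.subgroupOf (X ⊓ D) ≤ Q →
        Q = A.subgroupOf (X ⊓ D) := by
    intro A hA hc Q hQ hle
    refine (Subgroup.eq_of_le_of_card_ge hle ?_).symm
    rw [Nat.card_congr (Subgroup.subgroupOfEquivOfLe hA).toEquiv, hc]
    have := hmax (Q.map (X ⊓ D : Subgroup G).subtype) (Subgroup.map_subtype_le Q) (hQ.map _)
    rwa [Subgroup.card_map_of_injective (Subgroup.subtype_injective _)] at this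
  let P₁ : Sylow p (X ⊓ D : Subgroup G) :=
    { toSubgroup := S₁, isPGroup' := h1, is_maximal' := fun {Q} hQ hle => top_of R hR rfl Q hQ hle }
  let P₂ : Sylow p (X ⊓ D : Subgroup G) :=
    { toSubgroup := S₂, isPGroup' := h2, is_maximal' := fun {Q} hQ hle => top_of Rc hRcle hcard Q hQ hle }
  obtain ⟨d, hd⟩ := MulAction.exists_smul_eq (X ⊓ D : Subgroup G) P₁ P₂
  have hd' : R.map (MulAut.conj (d : G)).toMonoidHom = Rc := by
    have e := congrArg (fun P : Sylow p (X ⊓ D : Subgroup G) =>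
      (P : Subgroup (X ⊓ D : Subgroup G)).map (X ⊓ D : Subgroup G).subtype) hd
    simp only [Sylow.coe_subgroup_smul] at e
    rw [show ((P₂ : Subgroup (X ⊓ D : Subgroup G))) = Rc.subgroupOf (X ⊓ D) from rfl,
      Subgroup.map_subgroupOf_eq_of_le hRcle] at e
    rw [← e]
    ext w
    simp only [Subgroup.mem_map, Subgroup.mem_pointwise_smul_iff_inv_smul_mem, P₁, S₁,
      Subgroup.mem_subgroupOf]
    constructor
    · rintro ⟨r, hr, rfl⟩
      refine ⟨d * ⟨r, hR hr⟩ * d⁻¹, ?_, rfl⟩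
      simpa [MulAut.conj_apply, mul_assoc] using hr
    · rintro ⟨v, hv, rfl⟩
      refine ⟨_, hv, ?_⟩
      simp [MulAut.conj_apply, mul_assoc]
  refine ⟨(d : G)⁻¹ * x, Subgroup.mem_inf.2 ⟨mul_mem (inv_mem (Subgroup.mem_inf.1 d.2).1) hx, ?_⟩, ?_⟩
  · rw [Subgroup.mem_normalizer_iff_map_conj_eq]
    refine Subgroup.eq_of_le_of_card_ge ?_ (le_of_eq ?_)
    · rintro _ ⟨r, hr, rfl⟩
      obtain ⟨r', hr', e⟩ : x * r * x⁻¹ ∈ R.map (MulAut.conj (d : G)).toMonoidHom := hd' ▸ ⟨r, hr, rfl⟩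
      have : (d : G)⁻¹ * x * r * ((d : G)⁻¹ * x)⁻¹ = r' := by
        have e' : (d : G) * r' * (d : G)⁻¹ = x * r * x⁻¹ := e
        rw [show (d : G)⁻¹ * x * r * ((d : G)⁻¹ * x)⁻¹ = (d : G)⁻¹ * (x * r * x⁻¹) * d by group, ← e']
        group
      show (d : G)⁻¹ * x * r * ((d : G)⁻¹ * x)⁻¹ ∈ R
      exact this ▸ hr'
    · exact Nat.card_congr (Subgroup.equivMapOfInjective _ _ (MulAut.conj _).injective).toEquiv
  · have := Subgroup.Normal.conj_mem ‹D.Normal› _ (Subgroup.mem_inf.1 d.2).2 x⁻¹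
    simpa [mul_assoc] using mul_mem this hxd

variable {Ω : Type*} [MulAction G Ω] [Finite Ω]

/-- A prime dividing the degree. -/
theorem Hyp.exists_prime_pow (h : Hyp Ω D) (hk : D ≠ ⊤) {p : ℕ} [hp : Fact p.Prime]
    (hpn : p ∣ Nat.card Ω) (a : Ω) :
    ∃ e, 1 ≤ e ∧ p ^ e ∣ Nat.card Ω ∧ D.index ∣ p ^ e - 1 ∧
      (p ^ e = Nat.card Ω → FaithfulSMul G Ω → ¬ p ∣ Nat.card ↥(D ⊓ stabilizer G a : Subgroup G)) := by
  classical
  set Da : Subgroup G := D ⊓ stabilizer G a with hDa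
  -- a Sylow subgroup of the point stabiliser
  obtain ⟨R0⟩ : Nonempty (Sylow p Da) := inferInstance
  set R : Subgroup G := (R0 : Subgroup Da).map Da.subtype with hRdef
  have hRDa : R ≤ Da := Subgroup.map_subtype_le _
  have hRp : IsPGroup p R := R0.2.map _
  have hRcard : Nat.card R = p ^ (Nat.card Da).factorization p := by
    rw [hRdef, Subgroup.card_map_of_injective (Subgroup.subtype_injective _)]
    exact R0.card_eq_multiplicity
  have hmax : ∀ (b : Ω) (Q : Subgroup G), Q ≤ D ⊓ stabilizer G b → IsPGroup p Q →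
      Nat.card Q ≤ Nat.card R := by
    intro b Q hQ hQp
    obtain ⟨d, hd, hdb⟩ := h.trans b a
    have hle : Q.map (MulAut.conj d).toMonoidHom ≤ Da := by
      rintro _ ⟨q, hq, rfl⟩
      have h1 := Subgroup.mem_inf.1 (hQ hq)
      refine Subgroup.mem_inf.2 ⟨mul_mem (mul_mem hd h1.1) (inv_mem hd), ?_⟩
      rw [mem_stabilizer_iff, MulEquiv.coe_toMonoidHom, MulAut.conj_apply, mul_smul, mul_smul,
        ← hdb, inv_smul_smul, mem_stabilizer_iff.1 h1.2]
    obtain ⟨m, hm⟩ := (hQp.map (MulAut.conj d).toMonoidHom).exists_card_eq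
    rw [← Subgroup.card_map_of_injective (f := (MulAut.conj d).toMonoidHom) (MulAut.conj d).injective,
      hm, hRcard]
    refine Nat.pow_le_pow_right hp.out.pos ((hp.out.pow_dvd_iff_le_factorization Nat.card_pos.ne').1 ?_)
    exact hm ▸ Subgroup.card_dvd_of_le hle
  -- its normaliser maps onto the quotient
  have hmax' : ∀ Q : Subgroup G, Q ≤ stabilizer G a ⊓ D → IsPGroup p Q → Nat.card Q ≤ Nat.card R :=
    fun Q hQ hQp => hmax a Q (hQ.trans (inf_comm _ _).le) hQp
  have hXa := (h.onto_stab a).normalizer (hRDa.trans (inf_comm _ _).le) hRp hmax'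
  set NG : Subgroup G := Subgroup.normalizer (R : Set G) with hNG
  have hNGonto : Onto NG D := hXa.mono inf_le_right
  -- a Sylow subgroup of the normaliser in `D`
  have hRN : R ≤ NG ⊓ D := le_inf Subgroup.le_normalizer (hRDa.trans inf_le_left)
  obtain ⟨P0, hP0⟩ := (hRp.of_equiv (Subgroup.subgroupOfEquivOfLe hRN).symm).exists_le_sylow
  set P : Subgroup G := (P0 : Subgroup (NG ⊓ D : Subgroup G)).map (NG ⊓ D : Subgroup G).subtype
    with hPdef
  have hPle : P ≤ NG ⊓ D := Subgroup.map_subtype_le _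
  have hRP : R ≤ P := fun r hr => ⟨⟨r, hRN hr⟩, hP0 hr, rfl⟩
  have hPp : IsPGroup p P := P0.2.map _
  have hPmax : ∀ Q : Subgroup G, Q ≤ NG ⊓ D → IsPGroup p Q → Nat.card Q ≤ Nat.card P := by
    intro Q hQ hQp
    obtain ⟨m, hm⟩ := hQp.exists_card_eq
    rw [hm, hPdef, Subgroup.card_map_of_injective (Subgroup.subtype_injective _),
      P0.card_eq_multiplicity]
    refine Nat.pow_le_pow_right hp.out.pos ((hp.out.pow_dvd_iff_le_factorization Nat.card_pos.ne').1 ?_)
    exact hm ▸ Subgroup.card_dvd_of_le hQ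
  have hX' := hNGonto.normalizer hPle hPp hPmax
  set X' : Subgroup G := NG ⊓ Subgroup.normalizer (P : Set G) with hX'def
  -- points fixed by `R`
  have hfixR : ∀ g ∈ NG, ∀ b : Ω, (∀ r ∈ R, r • b = b) → ∀ r ∈ R, r • (g • b) = g • b := by
    intro g hg b hb r hr
    have := hb _ ((Subgroup.mem_normalizer_iff''.1 hg r).1 hr)
    rwa [mul_smul, mul_smul, inv_smul_eq_iff] at this
  have hFa : ∀ r ∈ R, r • a = a := fun r hr =>
    mem_stabilizer_iff.1 (Subgroup.mem_inf.1 (hRDa hr)).2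
  have htransF : ∀ b : Ω, (∀ r ∈ R, r • b = b) → ∃ n ∈ NG ⊓ D, n • a = b := by
    intro b hb
    obtain ⟨d, hd, hdb⟩ := h.trans a b
    set R' : Subgroup G := R.map (MulAut.conj d⁻¹).toMonoidHom
    have hR'c : Nat.card R' = Nat.card R :=
      Subgroup.card_map_of_injective (MulAut.conj d⁻¹).injective
    have hR' : R' ≤ Da := by
      rintro _ ⟨r, hr, rfl⟩
      refine Subgroup.mem_inf.2 ⟨mul_mem (mul_mem (inv_mem hd) (Subgroup.mem_inf.1 (hRDa hr)).1)
        (inv_mem (inv_mem hd)), ?_⟩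
      rw [mem_stabilizer_iff, MulEquiv.coe_toMonoidHom, MulAut.conj_apply, inv_inv, mul_smul,
        mul_smul, hdb, hb r hr, ← hdb, inv_smul_smul]
    -- both are Sylow subgroups of the point stabiliser
    have key : ∀ (A : Subgroup G), A ≤ Da → IsPGroup p A → Nat.card A = Nat.card R →
        ∃ S : Sylow p Da, (S : Subgroup Da) = A.subgroupOf Da := by
      intro A hA hAp hAc
      refine ⟨Sylow.ofCard (A.subgroupOf Da) ?_, rfl⟩
      rw [Nat.card_congr (Subgroup.subgroupOfEquivOfLe hA).toEquiv, hAc, hRcard]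
    obtain ⟨S₁, hS₁⟩ := key R' hR' (hRp.map _) hR'c
    obtain ⟨S₂, hS₂⟩ := key R hRDa hRp rfl
    obtain ⟨c, hc⟩ := MulAction.exists_smul_eq Da S₁ S₂
    refine ⟨d * (c : G)⁻¹, Subgroup.mem_inf.2 ⟨?_, mul_mem hd (inv_mem (Subgroup.mem_inf.1 c.2).1)⟩, ?_⟩
    · rw [hNG, Subgroup.mem_normalizer_iff_map_conj_eq]
      refine Subgroup.eq_of_le_of_card_ge ?_
        (Subgroup.card_map_of_injective (MulAut.conj _).injective).ge
      rintro _ ⟨r, hr, rfl⟩
      have hmem : (c : Da)⁻¹ * ⟨r, hRDa hr⟩ * c ∈ (S₁ : Subgroup Da) := by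
        have h1 : (⟨r, hRDa hr⟩ : Da) ∈ ((c • S₁ : Sylow p Da) : Subgroup Da) := by
          rw [hc, hS₂]; exact hr
        rw [Sylow.coe_subgroup_smul, Subgroup.mem_pointwise_smul_iff_inv_smul_mem] at h1
        simpa [MulAut.conj_apply] using h1
      rw [hS₁, Subgroup.mem_subgroupOf] at hmem
      obtain ⟨r', hr', e⟩ := hmem
      have e' : d⁻¹ * r' * d = (c : G)⁻¹ * r * c := by simpa using e
      have : d * (c : G)⁻¹ * r * (d * (c : G)⁻¹)⁻¹ = r' := by
        rw [show d * (c : G)⁻¹ * r * (d * (c : G)⁻¹)⁻¹ = d * ((c : G)⁻¹ * r * c) * d⁻¹ by group, ← e']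
        group
      show d * (c : G)⁻¹ * r * (d * (c : G)⁻¹)⁻¹ ∈ R
      exact this ▸ hr'
    · rw [mul_smul, inv_smul_eq_iff.2 (mem_stabilizer_iff.1 (Subgroup.mem_inf.1 c.2).2).symm, hdb]
  -- elements of the normaliser outside `D` fix a point fixed by `R`
  have hfixF : ∀ x ∈ NG, x ∉ D → ∀ b : Ω, x • b = b → ∀ r ∈ R, r • b = b := by
    intro x hx hxD b hxb
    obtain ⟨n₀, hn₀, hn₀a⟩ := htransF (x • a) (hfixR x hx a hFa)
    obtain ⟨n, hn, hxn⟩ := h.fix_in_orbit hx hxD ⟨n₀, hn₀, hn₀a.symm⟩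
    rw [h.uniq x hxD b _ hxb hxn]
    exact hfixR n (Subgroup.mem_inf.1 hn).1 a hFa
  haveI : Nonempty Ω := ⟨a⟩
  obtain ⟨b, hb⟩ := h.exists_onto hX'
  obtain ⟨x, hx, hxD⟩ : ∃ x ∈ X' ⊓ stabilizer G b, x ∉ D := by
    obtain ⟨g, hg⟩ : ∃ g, g ∉ D := by
      by_contra hh
      push Not at hh
      exact hk (top_le_iff.1 fun g _ => hh g)
    obtain ⟨x, hx, hxg⟩ := hb g
    exact ⟨x, hx, fun hh => hg (by simpa using mul_mem hh hxg)⟩
  have hRb : ∀ r ∈ R, r • b = b :=
    hfixF x (Subgroup.mem_inf.1 (Subgroup.mem_inf.1 hx).1).1 hxD b (mem_stabilizer_iff.1 (Subgroup.mem_inf.1 hx).2)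
  -- the orbit of `P` at `b`
  have hstab : (stabilizer G b).subgroupOf P = R.subgroupOf P := by
    have hle : R.subgroupOf P ≤ (stabilizer G b).subgroupOf P := fun z hz => hRb _ hz
    refine (Subgroup.eq_of_le_of_card_ge hle ?_).symm
    rw [Nat.card_congr (Subgroup.subgroupOfEquivOfLe hRP).toEquiv,
      ← Subgroup.card_map_of_injective (f := P.subtype) (Subgroup.subtype_injective _)
        (K := (stabilizer G b).subgroupOf P)]
    refine hmax b _ ?_ ((hPp.to_subgroup _).map _)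
    rw [Subgroup.subgroupOf_map_subtype]
    exact le_inf (inf_le_right.trans (hPle.trans inf_le_right)) inf_le_left
  have horb : (orbit P b).ncard = R.relIndex P := by
    rw [← index_stabilizer, show stabilizer P b = (stabilizer G b).subgroupOf P from rfl, hstab]
    rfl
  have hmul : Nat.card R * R.relIndex P = Nat.card P := by
    have := Subgroup.card_mul_index (R.subgroupOf P)
    rwa [Nat.card_congr (Subgroup.subgroupOfEquivOfLe hRP).toEquiv] at this
  obtain ⟨m, hm⟩ := hPp.exists_card_eq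
  obtain ⟨e, -, he⟩ : ∃ e ≤ m, R.relIndex P = p ^ e :=
    (Nat.dvd_prime_pow hp.out).1 ⟨_, hm.symm.trans (hmul.symm.trans (mul_comm _ _))⟩
  have hcardD : Nat.card Da * Nat.card Ω = Nat.card D := by
    haveI : IsPretransitive D Ω := ⟨fun u v => let ⟨d, hd, e⟩ := h.trans u v; ⟨⟨d, hd⟩, e⟩⟩
    have := Subgroup.card_mul_index (stabilizer D a)
    rw [index_stabilizer_of_transitive] at this
    rw [← this]
    congr 1
    rw [← Subgroup.card_map_of_injective (f := D.subtype) (Subgroup.subtype_injective _),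
      show stabilizer D a = (stabilizer G a).subgroupOf D from rfl, Subgroup.subgroupOf_map_subtype,
      hDa, inf_comm]
  have hne : 1 ≤ e := by
    by_contra he0
    rw [show e = 0 by omega, pow_zero] at he
    have hPR : P = R := le_antisymm (Subgroup.relIndex_eq_one.1 he) hRP
    -- so `R` is a Sylow subgroup of `D`
    obtain ⟨Q0, hQ0⟩ := (hRp.of_equiv
      (Subgroup.subgroupOfEquivOfLe (hRDa.trans inf_le_left)).symm).exists_le_sylow
    have hlt : R.subgroupOf D < (Q0 : Subgroup D) := by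
      refine lt_of_le_of_ne hQ0 fun e1 => ?_
      have h1 := Q0.card_eq_multiplicity
      rw [← e1, Nat.card_congr (Subgroup.subgroupOfEquivOfLe (hRDa.trans inf_le_left)).toEquiv,
        hRcard, ← hcardD, Nat.factorization_mul Nat.card_pos.ne' Nat.card_pos.ne',
        Finsupp.add_apply] at h1
      have h2 := Nat.pow_right_injective hp.out.two_le h1
      have h3 := hp.out.factorization_pos_of_dvd Nat.card_pos.ne' hpn
      omega
    have hnorm : Group.IsNilpotent Q0 := Q0.2.isNilpotent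
    obtain ⟨y, hy, hyR⟩ : ∃ y ∈ Subgroup.normalizer (((R.subgroupOf D).subgroupOf (Q0 : Subgroup D)) : Set Q0),
        y ∉ (R.subgroupOf D).subgroupOf (Q0 : Subgroup D) := by
      haveI := hnorm
      refine SetLike.exists_of_lt (Group.normalizerCondition_of_isNilpotent _ (lt_top_iff_ne_top.2 ?_))
      rw [Ne, Subgroup.subgroupOf_eq_top]
      exact hlt.not_ge
    have hyN : ((y : D) : G) ∈ NG := by
      rw [hNG, Subgroup.mem_normalizer_iff_map_conj_eq]
      refine Subgroup.eq_of_le_of_card_ge ?_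
        (Subgroup.card_map_of_injective (MulAut.conj _).injective).ge
      rintro _ ⟨r, hr, rfl⟩
      exact (Subgroup.mem_normalizer_iff.1 hy
        ⟨⟨r, (hRDa.trans inf_le_left) hr⟩, hQ0 hr⟩).1 hr
    let Y : Subgroup G := R ⊔ Subgroup.zpowers ((y : D) : G)
    have hY1 : Y ≤ NG ⊓ D := sup_le hRN (Subgroup.zpowers_le.2 (Subgroup.mem_inf.2 ⟨hyN, (y : D).2⟩))
    have hY2 : IsPGroup p Y := by
      refine (Q0.2.map D.subtype).to_le (sup_le (fun r hr => ⟨⟨r, (hRDa.trans inf_le_left) hr⟩, hQ0 hr, rfl⟩)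
        (Subgroup.zpowers_le.2 ⟨_, y.2, rfl⟩))
    have h1 := hPmax Y hY1 hY2
    rw [hPR] at h1
    have h2 : Y = R := (Subgroup.eq_of_le_of_card_ge le_sup_left h1).symm
    exact hyR (h2.le (Subgroup.mem_sup_right (Subgroup.mem_zpowers _)))
  refine ⟨e, hne, ?_, ?_, fun heq hfa hpd => ?_⟩
  · refine (hp.out.pow_dvd_iff_le_factorization Nat.card_pos.ne').2 ?_
    have h1 : p ^ ((Nat.card Da).factorization p + e) ∣ Nat.card D := by
      rw [pow_add, ← hRcard, ← he, hmul]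
      exact Subgroup.card_dvd_of_le (hPle.trans inf_le_right)
    have h2 := (hp.out.pow_dvd_iff_le_factorization Nat.card_pos.ne').1 h1
    rw [← hcardD, Nat.factorization_mul Nat.card_pos.ne' Nat.card_pos.ne', Finsupp.add_apply] at h2
    omega
  · have hS := h.dvd_ncard hb inf_le_right (S := orbit P b \ {b}) ?_ (by simp)
    · rwa [Set.ncard_sdiff_singleton_of_mem (mem_orbit_self b), horb, he] at hS
    · rintro z hz _ ⟨⟨⟨w, hw⟩, rfl⟩, hne'⟩
      have hzb : z • b = b := mem_stabilizer_iff.1 (Subgroup.mem_inf.1 hz).2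
      have hzP : z ∈ Subgroup.normalizer (P : Set G) :=
        (Subgroup.mem_inf.1 (Subgroup.mem_inf.1 hz).1).2
      refine ⟨⟨⟨z * w * z⁻¹, (Subgroup.mem_normalizer_iff.1 hzP w).1 hw⟩, ?_⟩, fun e1 => hne' ?_⟩
      · show (z * w * z⁻¹) • b = z • w • b
        rw [mul_smul, mul_smul, inv_smul_eq_iff.2 hzb.symm]
      · rw [Set.mem_singleton_iff] at e1 ⊢
        exact smul_left_cancel z (e1.trans hzb.symm)
  · haveI := hfa
    have huniv : orbit P b = Set.univ := by
      refine Set.eq_of_subset_of_ncard_le (Set.subset_univ _) ?_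
      rw [Set.ncard_univ, horb, he, heq]
    have hR1 : R = ⊥ := by
      refine (Subgroup.eq_bot_iff_forall R).2 fun r hr => eq_of_smul_eq_smul (α := Ω) fun z => ?_
      obtain ⟨⟨w, hw⟩, rfl⟩ := huniv.ge (Set.mem_univ z)
      rw [one_smul]
      exact hfixR w (Subgroup.mem_inf.1 (hPle hw)).1 b hRb r hr
    rw [hR1, Subgroup.card_bot] at hRcard
    have := hp.out.factorization_pos_of_dvd Nat.card_pos.ne' hpd
    exact (Nat.one_lt_pow this.ne' hp.out.one_lt).ne hRcard

/-- A block gives two factors. -/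
theorem Hyp.sq_le_of_imprimitive [Nonempty Ω] (h : Hyp Ω D) (himp : ¬ IsPreprimitive G Ω) :
    (D.index + 1) ^ 2 ≤ Nat.card Ω := by
  classical
  haveI : IsPretransitive G Ω := ⟨fun u v => let ⟨d, _, e⟩ := h.trans u v; ⟨d, e⟩⟩
  obtain ⟨B, hB, hBt⟩ : ∃ B : Set Ω, IsBlock G B ∧ ¬ IsTrivialBlock B := by
    by_contra hh
    push Not at hh
    exact himp ⟨fun {B} hB => hh B hB⟩
  simp only [IsTrivialBlock, not_or, Set.not_subsingleton_iff] at hBt
  obtain ⟨a, ha⟩ := hBt.1.nonempty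
  have hm2 : 2 ≤ B.ncard := Set.one_lt_ncard_iff_nontrivial.2 hBt.1
  have hinv : ∀ g ∈ stabilizer G a, ∀ c ∈ B \ {a}, g • c ∈ B \ {a} := by
    intro g hg c hc
    have hga : g • a = a := mem_stabilizer_iff.1 hg
    have hgB : g • B = B := hB.smul_eq_of_mem ha (by rwa [hga])
    refine ⟨hgB.le ⟨c, hc.1, rfl⟩, fun e => hc.2 ?_⟩
    rw [Set.mem_singleton_iff] at e ⊢
    exact smul_left_cancel g (e.trans hga.symm)
  have h1 := h.dvd_ncard (h.onto_stab a) le_rfl hinv (by simp)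
  rw [Set.ncard_sdiff_singleton_of_mem ha] at h1
  have h2 := h.dvd_card_sub_one
  have hmul := hB.ncard_block_mul_ncard_orbit_eq ⟨a, ha⟩
  set l := (orbit G B).ncard
  have hl2 : 2 ≤ l := by
    by_contra hh
    have hl : l = 0 ∨ l = 1 := by omega
    rcases hl with hl | hl <;> rw [hl] at hmul
    · simp at hmul
      exact Nat.card_pos.ne' hmul.symm
    · exact hBt.2 (Set.eq_of_subset_of_ncard_le (Set.subset_univ _)
        (by rw [Set.ncard_univ, ← hmul, mul_one]))
  have h3 : D.index ∣ l - 1 := by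
    have e : Nat.card Ω - 1 = (B.ncard - 1) * l + (l - 1) := by
      rw [← hmul, Nat.sub_mul, one_mul]
      have : 1 * l ≤ B.ncard * l := Nat.mul_le_mul_right _ (by omega)
      omega
    rw [e] at h2
    exact (Nat.dvd_add_right (h1.mul_right l)).1 h2
  rw [← hmul, sq]
  have := Nat.le_of_dvd (by omega) h1
  have := Nat.le_of_dvd (by omega) h3
  exact Nat.mul_le_mul (by omega) (by omega)

end CfsgLib.DerangedIndex
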