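import Cfsg.Agent.DerangedIndex.Degree
import Mathlib

/-!
# A regular Sylow subgroup

`U` is an abelian `p`-subgroup of `D` whose order is the degree, and `p` divides no point stabiliser
in `D`.  Then `U` and all its conjugates are regular, and a subgroup `H` of `D` containing `U` in
which `U` is its own normaliser equals `U`.
-/

set_option autoImplicit false
set_option linter.unusedSectionVars false
set_option linter.style.haveILetI false

open MulAction

namespace CfsgLib.DerangedIndex

/-- The setting. -/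
structure RegHyp {G : Type*} [Group G] (Ω : Type*) [MulAction G Ω] (D U : Subgroup G) (p v : ℕ) :
    Prop where
  cop : ∀ b : Ω, ¬ p ∣ Nat.card ↥(D ⊓ stabilizer G b : Subgroup G)
  le : U ≤ D
  card : Nat.card U = p ^ v
  degree : Nat.card Ω = p ^ v
  comm : ∀ x ∈ U, ∀ y ∈ U, x * y = y * x

variable {G : Type*} [Group G] [Finite G] {Ω : Type*} [MulAction G Ω] [Finite Ω] {D U : Subgroup G}
  {p v : ℕ} [hp : Fact p.Prime] (h : RegHyp Ω D U p v)
include h

theorem RegHyp.eq_one {Q : Subgroup G} (hQD : Q ≤ D) (hQ : IsPGroup p Q) {g : G} (hg : g ∈ Q)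
    {b : Ω} (hb : g • b = b) : g = 1 := by
  obtain ⟨i, hi⟩ := hQ ⟨g, hg⟩
  obtain ⟨j, -, hj⟩ := (Nat.dvd_prime_pow hp.out).1
    (orderOf_dvd_of_pow_eq_one (x := g) (n := p ^ i) (congrArg Subtype.val hi))
  by_contra hne
  refine h.cop b ?_
  have h1 : orderOf g ∣ Nat.card ↥(D ⊓ stabilizer G b : Subgroup G) :=
    Subgroup.orderOf_dvd_natCard _ (Subgroup.mem_inf.2 ⟨hQD hg, hb⟩)
  rw [hj] at h1
  refine dvd_trans (dvd_pow_self p ?_) h1
  rintro rfl
  exact hne (orderOf_eq_one_iff.1 (by rw [hj, pow_zero]))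

theorem RegHyp.ncard_orbit {Q : Subgroup G} (hQD : Q ≤ D) (hQ : IsPGroup p Q) (b : Ω) :
    (orbit Q b).ncard = Nat.card Q := by
  have : stabilizer Q b = ⊥ := (Subgroup.eq_bot_iff_forall _).2 fun q hq =>
    Subtype.ext (h.eq_one hQD hQ q.2 hq)
  rw [← index_stabilizer, this, Subgroup.index_bot]

theorem RegHyp.isPGroup : IsPGroup p U := IsPGroup.of_card h.card

theorem RegHyp.exists_smul {Q : Subgroup G} (hQD : Q ≤ D) (hQ : IsPGroup p Q)
    (hc : Nat.card Q = p ^ v) (a b : Ω) : ∃ q ∈ Q, q • a = b := by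
  have he : orbit Q a = Set.univ := Set.eq_of_subset_of_ncard_le (Set.subset_univ _)
    (by rw [h.ncard_orbit hQD hQ, hc, Set.ncard_univ, h.degree])
  obtain ⟨⟨q, hq⟩, hqa⟩ := he.ge (Set.mem_univ b)
  exact ⟨q, hq, hqa⟩

/-- An element of the normaliser fixing a point centralises what it fixes by conjugation. -/
theorem RegHyp.fix_smul {a : Ω} {x u : G} (hxa : x • a = a) (hcomm : x * u = u * x) :
    x • (u • a) = u • a := by
  rw [← mul_smul, hcomm, mul_smul, hxa]

/-- Burnside's transfer: a subgroup in which `U` is self-normalising is `U`. -/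
theorem RegHyp.eq_of_normalizer_le [FaithfulSMul G Ω] {H : Subgroup G} (hUH : U ≤ H) (hHD : H ≤ D)
    (hN : Subgroup.normalizer (U : Set G) ⊓ H ≤ U) : H = U := by
  classical
  refine le_antisymm ?_ hUH
  have hUH' : Nat.card (U.subgroupOf H) = p ^ v := by
    rw [Nat.card_congr (Subgroup.subgroupOfEquivOfLe hUH).toEquiv, h.card]
  -- `U` is a Sylow subgroup of `H`
  obtain ⟨P, hP⟩ := (IsPGroup.of_card hUH' : IsPGroup p (U.subgroupOf H)).exists_le_sylow
  have hPU : (P : Subgroup H) = U.subgroupOf H := by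
    refine (Subgroup.eq_of_le_of_card_ge hP ?_).symm
    have hne : Nonempty Ω := by
      have : Nat.card Ω ≠ 0 := by rw [h.degree]; exact pow_ne_zero _ hp.out.ne_zero
      exact (Nat.card_ne_zero.1 this).1
    obtain ⟨a⟩ := hne
    have h1 := h.ncard_orbit (Q := (P : Subgroup H).map H.subtype)
      ((Subgroup.map_subtype_le _).trans hHD) (P.2.map _) a
    rw [hUH', ← h.degree, ← Subgroup.card_map_of_injective (f := H.subtype)
      (Subgroup.subtype_injective _) (K := (P : Subgroup H)), ← h1, ← Set.ncard_univ Ω]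
    exact Set.ncard_le_ncard (Set.subset_univ _) (Set.toFinite _)
  have hnc : Subgroup.normalizer ((P : Subgroup H) : Set H) ≤
      Subgroup.centralizer ((P : Subgroup H) : Set H) := by
    intro x hx
    have hxN : (x : G) ∈ Subgroup.normalizer (U : Set G) := by
      rw [Subgroup.mem_normalizer_iff]
      intro u
      constructor
      · intro hu
        have := (Subgroup.mem_normalizer_iff.1 hx ⟨u, hUH hu⟩).1 (by rw [hPU]; exact hu)
        rw [hPU] at this
        exact this
      · intro hu
        have huH : u ∈ H := by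
          have := mul_mem (mul_mem (inv_mem x.2) (hUH hu)) x.2
          simpa [mul_assoc] using this
        have := (Subgroup.mem_normalizer_iff.1 hx ⟨u, huH⟩).2 (by rw [hPU]; exact hu)
        rw [hPU] at this
        exact this
    have hxU : (x : G) ∈ U := hN (Subgroup.mem_inf.2 ⟨hxN, x.2⟩)
    rw [Subgroup.mem_centralizer_iff]
    intro w hw
    rw [hPU] at hw
    exact Subtype.ext (h.comm _ hw _ hxU)
  have hM := MonoidHom.ker_transferSylow_isComplement' P hnc
  set M := (MonoidHom.transferSylow P hnc).ker with hMdef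
  have hcard : Nat.card M * p ^ v = Nat.card H := by
    rw [← hUH', ← hPU]
    exact hM.card_mul_card
  have hindex : M.index = p ^ v := by
    have := hM.symm.index_eq_card
    rw [this, hPU, hUH']
  suffices hM1 : Nat.card M = 1 by
    rw [hM1, one_mul] at hcard
    exact (Subgroup.eq_of_le_of_card_ge hUH (by rw [h.card, hcard])).ge
  by_contra hne
  obtain ⟨r, hr, hrM⟩ := Nat.exists_prime_and_dvd hne
  haveI : Fact r.Prime := ⟨hr⟩
  obtain ⟨W⟩ : Nonempty (Sylow r M) := inferInstance
  set WH : Subgroup H := (W : Subgroup M).map M.subtype with hWH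
  set WG : Subgroup G := WH.map H.subtype with hWG
  -- `M` has order prime to `p`
  have hpM : ¬ p ∣ Nat.card M := by
    intro hd
    obtain ⟨c, hc⟩ := hd
    obtain ⟨Q, hQ⟩ := Sylow.exists_subgroup_card_pow_prime (G := H) p (n := v + 1)
      ⟨c, by rw [← hcard, hc, pow_succ]; ring⟩
    obtain ⟨a⟩ : Nonempty Ω := (Nat.card_ne_zero.1
      (by rw [h.degree]; exact pow_ne_zero _ hp.out.ne_zero)).1
    have h1 := h.ncard_orbit (Q := Q.map H.subtype) ((Subgroup.map_subtype_le _).trans hHD)
      ((IsPGroup.of_card hQ).map _) a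
    have h2 := Set.ncard_le_ncard (Set.subset_univ (orbit (Q.map H.subtype : Subgroup G) a))
      (Set.toFinite _)
    rw [h1, Set.ncard_univ, h.degree, Subgroup.card_map_of_injective (Subgroup.subtype_injective _),
      hQ] at h2
    exact absurd h2 (Nat.pow_lt_pow_right hp.out.one_lt (Nat.lt_succ_self v)).not_ge
  -- its Sylow subgroup fixes a point
  have hrn : ¬ r ∣ Nat.card Ω := by
    rw [h.degree]
    intro hd
    exact hpM (((Nat.prime_dvd_prime_iff_eq hr hp.out).1 (hr.dvd_of_dvd_pow hd)) ▸ hrM)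
  obtain ⟨b, hb⟩ := ((W.2.map M.subtype).map H.subtype).nonempty_fixed_point_of_prime_not_dvd_card
    Ω hrn
  -- a regular subgroup normalises it
  have hdvd : p ^ v ∣ Nat.card (Subgroup.normalizer (WH : Set H)) := by
    rw [← hindex, ← Subgroup.relIndex_top_right, ← Sylow.normalizer_sup_eq_top (N := M) W,
      Subgroup.relIndex_sup_right]
    exact Subgroup.relIndex_dvd_card _ _
  obtain ⟨Q, hQ⟩ := Sylow.exists_subgroup_card_pow_prime p hdvd
  set QG : Subgroup G := (Q.map (Subgroup.normalizer (WH : Set H)).subtype).map H.subtype with hQG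
  have hQc : Nat.card QG = p ^ v := by
    rw [hQG, Subgroup.card_map_of_injective (Subgroup.subtype_injective _),
      Subgroup.card_map_of_injective (Subgroup.subtype_injective _), hQ]
  have hW1 : WG = ⊥ := by
    refine (Subgroup.eq_bot_iff_forall _).2 fun w hw => eq_of_smul_eq_smul (α := Ω) fun z => ?_
    rw [one_smul]
    obtain ⟨q, hq, rfl⟩ := h.exists_smul ((Subgroup.map_subtype_le _).trans hHD)
      (IsPGroup.of_card hQc) hQc b z
    obtain ⟨q', ⟨n, hn, rfl⟩, rfl⟩ := hq
    obtain ⟨w', hw', rfl⟩ := hw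
    have hconj := (Subgroup.mem_normalizer_iff''.1 n.2 w').1 hw'
    have := hb (⟨_, Subgroup.mem_map_of_mem H.subtype hconj⟩ : WG)
    rw [Subgroup.smul_def] at this
    simp only [Subgroup.coe_subtype, Subgroup.coe_mul, Subgroup.coe_inv, mul_smul,
      inv_smul_eq_iff] at this ⊢
    exact this
  rw [hWG, hWH, Subgroup.map_eq_bot_iff_of_injective _ (Subgroup.subtype_injective _),
    Subgroup.map_eq_bot_iff_of_injective _ (Subgroup.subtype_injective _)] at hW1
  have h1 := W.card_eq_multiplicity
  rw [hW1, Subgroup.card_bot] at h1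
  have := hr.factorization_pos_of_dvd Nat.card_pos.ne' hrM
  exact (Nat.one_lt_pow this.ne' hr.one_lt).ne h1

end CfsgLib.DerangedIndex
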